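import Cfsg.Agent.Mrg.Omega.NSix.CaseJ.OfEven
import Cfsg.Agent.Mrg.Omega.Half.Basic
import Cfsg.Agent.Mrg.Omega.NSix.TkPair

section


/-!
# OMEGA N6, case `J(S) ≰ O₂(P)`: exact offenders

* `Ex S P ε i j A` : `A ≤ P` is elementary abelian of maximal order in `G` and acts on `V` as `⟨(i j)⟩`;
* `exists_ex` : there is one for all `i ≠ j`;
* `Ex.A0_le` : `C_A(V) ≤ J(O₂(P))`;
* `Ex.count` : `|X| |C_A(X)| ≤ |A| |C_X(A)|`;
* `Ex.transv` : `A` acts as a transvection on every `X ≥ V` which is centralised by `C_A(V)`.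
-/

set_option autoImplicit false
set_option linter.unusedSectionVars false

namespace Cfsg.Agent.Omega.NSix.CaseJ.Exact

open Subgroup Cfsg Cfsg.Agent.PLocal.ThompsonJ Cfsg.Agent.ZN Cfsg.Agent.ZN.ChoiceBase
open Cfsg.Agent.ZN.ChoiceSit Cfsg.Agent.PLocal.ElemAbSup
open Cfsg.Agent.Omega.MinPar
open Cfsg.Agent.Omega.S5.Def Cfsg.Agent.Omega.S5.Syl Cfsg.Agent.Omega.S5.Pair
open Cfsg.Agent.Omega.NSix.Base Cfsg.Agent.Omega.NSix.Basic
open Cfsg.Agent.Omega.SQ1.Bau (mem_AA_of_comm elem_comm elem_sq mem_sup_comm card_sup_comm)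
open Cfsg.Agent.Omega.NSix.CaseJ.Base

universe u

variable {G : Type u} [Group G] [Finite G] {S : Sylow 2 G} {P : Subgroup G} {m : ℕ}
  {ε : (Fin (2 ^ m + 1) → ZMod 2) → G}

/-- An exact offender for the transposition `(i j)`. -/
structure Ex (P : Subgroup G) (ε : (Fin (2 ^ m + 1) → ZMod 2) → G) (i j : Fin (2 ^ m + 1))
    (A : Subgroup G) : Prop where
  elem : IsElementaryAbelian 2 A
  AP : A ≤ P
  card : ∀ B : Subgroup G, IsElementaryAbelian 2 B → Nat.card B ≤ Nat.card A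
  act : ∀ a ∈ A, Acts ε a 1 ∨ Acts ε a (Equiv.swap i j)
  ex : ∃ a ∈ A, Acts ε a (Equiv.swap i j)

/-- Elementary abelian 2-subgroups have order at most `mm S`. -/
theorem card_le_mm' (S : Sylow 2 G) {B : Subgroup G} (hB : IsElementaryAbelian 2 B) :
    Nat.card B ≤ mm (S : Subgroup G) := by
  obtain ⟨R, hR⟩ := (isPGroup_of_isElementaryAbelian hB).exists_le_sylow
  obtain ⟨g, hg⟩ := MulAction.exists_smul_eq G R S
  have h1 : (S : Subgroup G) = cj g (R : Subgroup G) := by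
    rw [← hg, Sylow.coe_subgroup_smul]
    rfl
  rw [h1, mm_cj]
  exact card_le_mm hB hR

theorem sup_elem {X Y : Subgroup G} (hX : IsElementaryAbelian 2 X) (hY : IsElementaryAbelian 2 Y)
    (h : ∀ x ∈ X, ∀ y ∈ Y, x * y = y * x) : IsElementaryAbelian 2 (X ⊔ Y : Subgroup G) :=
  isElementaryAbelian_sup hX hY fun y hy => mem_centralizer_iff.2 fun x hx => h x hx y hy

theorem zp_elem {x : G} (hx : x * x = 1) : IsElementaryAbelian 2 (zpowers x) :=
  isElementaryAbelian_zpowers (by rw [pow_two, hx])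

/-- Index at most two. -/
theorem card_le_two {A C : Subgroup G} {c : G} (h : ∀ y ∈ A, y ∉ C → c⁻¹ * y ∈ C) :
    Nat.card A ≤ 2 * Nat.card C := by
  classical
  have h1 : Nat.card A ≤ Nat.card (C × Bool) := by
    refine Nat.card_le_card_of_injective (fun y : A => if hy : (y : G) ∈ C then ((⟨y, hy⟩ : C), false)
      else ((⟨c⁻¹ * y, h y y.2 hy⟩ : C), true)) ?_
    intro y z hyz
    by_cases hy : (y : G) ∈ C
    · by_cases hz : (z : G) ∈ C
      · simp only [dif_pos hy, dif_pos hz, Prod.mk.injEq, Subtype.mk.injEq, and_true] at hyz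
        exact Subtype.ext hyz
      · simp [dif_pos hy, dif_neg hz] at hyz
    · by_cases hz : (z : G) ∈ C
      · simp [dif_neg hy, dif_pos hz] at hyz
      · simp only [dif_neg hy, dif_neg hz, Prod.mk.injEq, Subtype.mk.injEq, and_true] at hyz
        exact Subtype.ext (mul_left_cancel hyz)
  rw [Nat.card_prod] at h1
  simp only [Nat.card_eq_fintype_card, Fintype.card_bool] at h1 ⊢
  omega

/-- Index at least two. -/
theorem two_mul_card_le {A C : Subgroup G} (hCA : C ≤ A) (hne : ¬ A ≤ C) :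
    2 * Nat.card C ≤ Nat.card A := by
  have h1 := Subgroup.card_dvd_of_le hCA
  obtain ⟨k, hk⟩ := h1
  have h2 : Nat.card C ≠ Nat.card A := fun e => hne (Subgroup.eq_of_le_of_card_ge hCA e.ge).ge
  have h3 : 0 < Nat.card A := Nat.card_pos
  have h4 : 0 < Nat.card C := Nat.card_pos
  have hk2 : 2 ≤ k := by
    rcases k with _ | _ | k
    · omega
    · exfalso; apply h2; omega
    · omega
  rw [hk, mul_comm]
  exact Nat.mul_le_mul_left _ hk2

theorem sq_zpow {x : G} (hx : x * x = 1) (k : ℤ) : x ^ k = 1 ∨ x ^ k = x := by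
  have h2 : x ^ (2 : ℤ) = 1 := by
    rw [show (2 : ℤ) = 1 + 1 by norm_num, zpow_add, zpow_one, hx]
  rcases Int.emod_two_eq_zero_or_one k with h1 | h1
  · left
    rw [show k = 2 * (k / 2) by omega, zpow_mul, h2, one_zpow]
  · right
    rw [show k = 2 * (k / 2) + 1 by omega, zpow_add, zpow_mul, h2, one_zpow, one_mul, zpow_one]

theorem mem_zp {x y : G} (hx : x * x = 1) (hy : y ∈ zpowers x) : y = 1 ∨ y = x := by
  obtain ⟨k, rfl⟩ := mem_zpowers_iff.1 hy
  exact sq_zpow hx k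

theorem card_sup_zp {X : Subgroup G} {x : G} (hx : x * x = 1) (hxX : x ∉ X)
    (h : ∀ y ∈ X, y * x = x * y) : Nat.card ↥(X ⊔ zpowers x : Subgroup G) = 2 * Nat.card X := by
  have h1 := card_sup_comm (A := X) (B := zpowers x) (by
    intro y hy z hz
    rcases mem_zp hx hz with rfl | rfl
    · rw [one_mul, mul_one]
    · exact h y hy)
  have hx1 : x ≠ 1 := fun e => hxX (e ▸ one_mem X)
  have h2 : X ⊓ zpowers x = ⊥ := by
    rw [eq_bot_iff]
    intro z hz
    rcases mem_zp hx hz.2 with h3 | h3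
    · exact h3
    · exact absurd (h3 ▸ hz.1) hxX
  have h3 : Nat.card (zpowers x) = 2 := by
    rw [Nat.card_zpowers]
    exact orderOf_eq_prime (by rw [pow_two, hx]) hx1
  rw [h2, Subgroup.card_bot, mul_one, h3, mul_comm] at h1
  exact h1

/-- **The basic count.** -/
theorem count {A X : Subgroup G} (hA : IsElementaryAbelian 2 A) (hX : IsElementaryAbelian 2 X)
    (hc : ∀ B : Subgroup G, IsElementaryAbelian 2 B → Nat.card B ≤ Nat.card A) :
    Nat.card X * Nat.card ↥(A ⊓ centralizer (X : Set G)) ≤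
      Nat.card A * Nat.card ↥(X ⊓ centralizer (A : Set G)) := by
  have hcm : ∀ x ∈ X, ∀ a ∈ A ⊓ centralizer (X : Set G), x * a = a * x := fun x hx a ha =>
    mem_centralizer_iff.1 ha.2 x hx
  have h1 := sup_elem hX (isElementaryAbelian_mono hA inf_le_left) hcm
  have h2 := card_sup_comm hcm
  have h3 : Nat.card ↥(X ⊓ (A ⊓ centralizer (X : Set G))) ≤
      Nat.card ↥(X ⊓ centralizer (A : Set G)) :=
    Subgroup.card_le_of_le fun x hx => ⟨hx.1, mem_centralizer_iff.2 fun a ha => elem_comm hA a ha x hx.2.1⟩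
  rw [← h2]
  exact Nat.mul_le_mul (hc _ h1) h3

/-! ### Existence -/

/-- Commuting transpositions: equal at a common point. -/
theorem swap_comm_eq {n : ℕ} {i j k : Fin n} (hij : i ≠ j) (hik : i ≠ k)
    (h : Equiv.swap i j * Equiv.swap i k = Equiv.swap i k * Equiv.swap i j) : j = k := by
  by_contra hjk
  have h1 := congrArg (fun σ : Equiv.Perm (Fin n) => σ k) h
  simp only [Equiv.Perm.mul_apply, Equiv.swap_apply_right, Equiv.swap_apply_left] at h1
  rw [Equiv.swap_apply_of_ne_of_ne (Ne.symm hik) (Ne.symm hjk), Equiv.swap_apply_right] at h1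
  exact hij h1.symm

section

variable (h : Hyp S P ε)
include h

/-- Two elements of an abelian `A ≤ S` moving `i` move it to the same point. -/
theorem same_image {A : Subgroup G} (hA : IsElementaryAbelian 2 A) (hs : Side A ε)
    {a b : G} (ha : a ∈ A) (hb : b ∈ A) {σ τ : Equiv.Perm (Fin (2 ^ m + 1))} (hσ : Acts ε a σ)
    (hτ : Acts ε b τ) {i : Fin (2 ^ m + 1)} (h1 : σ i ≠ i) (h2 : τ i ≠ i) : σ i = τ i := by
  obtain ⟨σ', hσ', h3⟩ := hs a ha
  obtain rfl := h.ev.acts_unique h.three hσ hσ'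
  obtain ⟨τ', hτ', h4⟩ := hs b hb
  obtain rfl := h.ev.acts_unique h.three hτ hτ'
  obtain ⟨-, c, hc, hc'⟩ := h3 i h1
  obtain ⟨-, d, hd, hd'⟩ := h4 i h2
  have e1 := hc'.mul hd'
  have e2 := hd'.mul hc'
  rw [elem_comm hA c hc d hd] at e1
  exact swap_comm_eq h1.symm h2.symm (h.ev.acts_unique h.three e1 e2)

/-- **An exact offender in `S`.** -/
theorem exists_ex_S : ∃ A ∈ AA (S : Subgroup G), ∃ i j, i ≠ j ∧ Ex P ε i j A := by
  classical
  set V := zl (S : Subgroup G) P with hV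
  have hne : ∃ A ∈ AA (S : Subgroup G), ¬ A ≤ centralizer (V : Set G) := by
    by_contra hcon
    push Not at hcon
    apply h.nJ
    rw [jj_eq]
    refine sSup_le fun A hA a ha => h.cS (hA.2.1 ha) fun v hv => ?_
    exact (mem_centralizer_iff.1 (hcon A hA ha) v hv).symm
  obtain ⟨A, ⟨hA, hAV⟩, hmax⟩ := Set.exists_max_image
    {A : Subgroup G | A ∈ AA (S : Subgroup G) ∧ ¬ A ≤ centralizer (V : Set G)}
    (fun A => Nat.card ↥(A ⊓ centralizer (V : Set G))) (Set.toFinite _)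
    (by obtain ⟨A, h1, h2⟩ := hne; exact ⟨A, h1, h2⟩)
  have hs := h.side hA
  obtain ⟨a, ha, haV⟩ := SetLike.not_le_iff_exists.1 hAV
  obtain ⟨τ, hτ, hτ'⟩ := hs a ha
  have hτ1 : ∃ i, τ i ≠ i := by
    by_contra hcon
    push Not at hcon
    have e1 : τ = 1 := Equiv.ext hcon
    rw [e1] at hτ
    exact haV (h.ev.acts_one_iff.1 hτ)
  obtain ⟨p, hp⟩ := hτ1
  obtain ⟨-, b, hb, hb'⟩ := hτ' p hp
  set q := τ p with hq
  have key : ∀ c ∈ A, ∀ σ, Acts ε c σ → ∀ i, i ≠ p → i ≠ q → σ i = i := by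
    intro c hc σ hσ i hip hiq
    by_contra hne'
    -- the vector `x = z_i`
    set x := zz ε i with hx
    have hxV : x ∈ V := zz_mem h.ev i
    have hxx : x * x = 1 := zz_sq h.ev i
    have hxS : x ∈ (S : Subgroup G) := h.QS (h.VQ hxV)
    have hbx : b * x = x * b := by
      refine (h.ev.fixes_iff h.three hb' i).2 ?_
      exact Equiv.swap_apply_of_ne_of_ne hip hiq
    have hcx : c * x ≠ x * c := fun e => hne' ((h.ev.fixes_iff h.three hσ i).1 e)
    have hxA : x ∉ A := fun hxA => hcx (elem_comm hA.1 c hc x hxA)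
    have hcent : ∀ y ∈ A ⊓ centralizer ({x} : Set G), y * x = x * y := fun y hy =>
      mem_centralizer_singleton_iff.1 hy.2
    -- index two
    have hidx : Nat.card A ≤ 2 * Nat.card ↥(A ⊓ centralizer ({x} : Set G)) := by
      refine card_le_two (c := c) fun y hy hyC => ?_
      obtain ⟨σ', hσ'⟩ := h.ev.perm y (h.SP (hA.2.1 hy))
      have h8 : σ' i ≠ i := fun e => hyC ⟨hy, mem_centralizer_singleton_iff.2
        ((h.ev.fixes_iff h.three hσ' i).2 e)⟩
      have h9 : σ' i = σ i := same_image h hA.1 hs hy hc hσ' hσ h8 hne'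
      refine ⟨A.mul_mem (A.inv_mem hc) hy, mem_centralizer_singleton_iff.2 ?_⟩
      refine (h.ev.fixes_iff h.three (hσ.inv.mul hσ') i).2 ?_
      rw [Equiv.Perm.mul_apply, h9]
      exact σ.symm_apply_apply i
    set A' := (A ⊓ centralizer ({x} : Set G)) ⊔ zpowers x with hA'
    have hA'e : IsElementaryAbelian 2 A' := sup_elem (isElementaryAbelian_mono hA.1 inf_le_left)
      (zp_elem hxx) fun y hy z hz => by
        rcases mem_zp hxx hz with rfl | rfl
        · rw [mul_one, one_mul]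
        · exact hcent y hy
    have hA'c : Nat.card A' = 2 * Nat.card ↥(A ⊓ centralizer ({x} : Set G)) :=
      card_sup_zp hxx (fun hh => hxA hh.1) hcent
    have hA'S : A' ≤ (S : Subgroup G) := sup_le (inf_le_left.trans hA.2.1) (by rwa [zpowers_le])
    have hA'A : A' ∈ AA (S : Subgroup G) := by
      rw [mem_AA_iff]
      refine ⟨hA'e, hA'S, ?_⟩
      rw [mm_eq hA, hA'c]
      exact hidx
    have hbA' : b ∈ A' := mem_sup_left ⟨hb, mem_centralizer_singleton_iff.2 hbx⟩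
    have hA'V : ¬ A' ≤ centralizer (V : Set G) := fun hle => by
      have h5 := h.ev.acts_one_iff.2 (hle hbA')
      have h6 := h.ev.acts_unique h.three h5 hb'
      have h7 := Equiv.swap_apply_left p q
      rw [← h6] at h7
      exact hp h7.symm
    have h5 := hmax A' ⟨hA'A, hA'V⟩
    have h6 : A ⊓ centralizer (V : Set G) ≤ A' ⊓ centralizer (V : Set G) := fun y hy =>
      ⟨mem_sup_left ⟨hy.1, mem_centralizer_singleton_iff.2 (mem_centralizer_iff.1 hy.2 x hxV).symm⟩, hy.2⟩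
    have h7 := Subgroup.eq_of_le_of_card_ge h6 h5
    apply hxA
    have h8 : x ∈ A' ⊓ centralizer (V : Set G) := ⟨mem_sup_right (mem_zpowers x),
      mem_centralizer_iff.2 fun v hv => h.ev.comm_mem hv hxV⟩
    rw [← h7] at h8
    exact h8.1
  refine ⟨A, hA, p, q, hp.symm, hA.1, hA.2.1.trans h.SP, fun B hB => ?_, fun c hc => ?_, b, hb, hb'⟩
  · rw [← mm_eq hA]
    exact card_le_mm' S hB
  · obtain ⟨σ, hσ⟩ := h.ev.perm c (h.SP (hA.2.1 hc))
    have h1 := key c hc σ hσ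
    by_cases h2 : σ p = p
    · left
      have h3 : σ q = q := by
        by_contra h3
        have h4 : σ q ≠ p := fun e => hp (σ.injective (e.trans h2.symm))
        have h5 := h1 (σ q) h4 h3
        exact h3 (σ.injective h5)
      have e : σ = 1 := Equiv.ext fun i => by
        by_cases hip : i = p
        · rw [hip, h2]; rfl
        · by_cases hiq : i = q
          · rw [hiq, h3]; rfl
          · exact h1 i hip hiq
      rwa [e] at hσ
    · right
      have h3 : σ p = q := by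
        by_contra h3
        exact h2 (σ.injective (h1 (σ p) h2 h3))
      have h4 : σ q = p := by
        by_contra h4
        have h5 : σ q ≠ q := fun e => hp (σ.injective (h3.trans e.symm)).symm
        have h6 := h1 (σ q) h4 h5
        exact h5 (σ.injective h6)
      have e : σ = Equiv.swap p q := Equiv.ext fun i => by
        by_cases hip : i = p
        · rw [hip, h3, Equiv.swap_apply_left]
        · by_cases hiq : i = q
          · rw [hiq, h4, Equiv.swap_apply_right]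
          · rw [h1 i hip hiq, Equiv.swap_apply_of_ne_of_ne hip hiq]
      rwa [e] at hσ

end

theorem Ex.conj {i j : Fin (2 ^ m + 1)} {A : Subgroup G} (hA : Ex P ε i j A) {g : G} (hg : g ∈ P)
    {σ : Equiv.Perm (Fin (2 ^ m + 1))} (hσ : Acts ε g σ) : Ex P ε (σ i) (σ j) (cj g A) where
  elem := isElementaryAbelian_cj g hA.elem
  AP := by
    rintro _ ⟨a, ha, rfl⟩
    exact P.mul_mem (P.mul_mem hg (hA.AP ha)) (P.inv_mem hg)
  card B hB := by
    rw [card_cj]
    exact hA.card B hB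
  act := by
    rintro _ ⟨a, ha, rfl⟩
    rcases hA.act a ha with h1 | h1
    · left
      have := hσ.conj h1
      rwa [mul_one, mul_inv_cancel] at this
    · right
      have := hσ.conj h1
      rwa [← Equiv.swap_apply_apply] at this
  ex := by
    obtain ⟨a, ha, h1⟩ := hA.ex
    refine ⟨_, ⟨a, ha, rfl⟩, ?_⟩
    have := hσ.conj h1
    rwa [← Equiv.swap_apply_apply] at this

/-- **Exact offenders for all transpositions.** -/
theorem exists_ex (h : Hyp S P ε) {i j : Fin (2 ^ m + 1)} (hij : i ≠ j) : ∃ A, Ex P ε i j A := by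
  obtain ⟨A, -, p, q, hpq, hA⟩ := exists_ex_S h
  obtain ⟨σ, h1, h2, -⟩ := exists_perm hpq hij
  obtain ⟨g, hg, hσ⟩ := h.ev.full σ
  have := hA.conj hg hσ
  rw [h1, h2] at this
  exact ⟨_, this⟩

namespace Ex

variable {i j : Fin (2 ^ m + 1)} {A : Subgroup G} (hA : Ex P ε i j A) (h : Hyp S P ε)
include hA

theorem sq {a : G} (ha : a ∈ A) : a * a = 1 := by
  have := elem_sq hA.elem a ha
  rwa [pow_two] at this

include h

theorem mem_A0 {a : G} :
    a ∈ A ⊓ centralizer (zl (S : Subgroup G) P : Set G) ↔ a ∈ A ∧ Acts ε a 1 := by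
  rw [mem_inf, h.ev.acts_one_iff]

theorem card_A0 (hij : i ≠ j) :
    Nat.card A = 2 * Nat.card ↥(A ⊓ centralizer (zl (S : Subgroup G) P : Set G)) := by
  obtain ⟨a, ha, ha'⟩ := hA.ex
  refine le_antisymm (card_le_two (c := a) fun y hy hyC => ?_) (two_mul_card_le inf_le_left fun hle => ?_)
  · rcases hA.act y hy with h1 | h1
    · exact absurd ((hA.mem_A0 h).2 ⟨hy, h1⟩) hyC
    · exact (hA.mem_A0 h).2 ⟨A.mul_mem (A.inv_mem ha) hy,
        h.ev.acts_one_iff.2 (h.ev.mem_centralizer_of_acts h1 ha')⟩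
  · have h1 := ((hA.mem_A0 h).1 (hle ha)).2
    have h2 := h.ev.acts_unique h.three h1 ha'
    have h3 := Equiv.swap_apply_left i j
    rw [← h2] at h3
    exact hij h3

/-- `[V, A] = ⟨r_ij⟩`. -/
theorem comm_V {a v : G} (ha : a ∈ A) (hv : v ∈ zl (S : Subgroup G) P) :
    a * v * a⁻¹ = v ∨ a * v * a⁻¹ = v * rr ε i j := by
  obtain ⟨x, rfl⟩ := h.ev.surj v hv
  rcases hA.act a ha with h1 | h1
  · left
    exact h1 x
  · by_cases hx : x i = x j
    · left
      rw [(acts_swap h.ev h1 x).1 hx, mul_inv_cancel_right]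
    · right
      rw [(acts_swap h.ev h1 x).2 hx, rr_eq h.ev]

theorem norm_V {a v : G} (ha : a ∈ A) (hv : v ∈ zl (S : Subgroup G) P) :
    a * v * a⁻¹ ∈ zl (S : Subgroup G) P := h.Vn (hA.AP ha) hv

/-- `C_A(V) V` is elementary abelian of maximal order. -/
theorem A0_le (hij : i ≠ j) :
    A ⊓ centralizer (zl (S : Subgroup G) P : Set G) ≤ jj (o2 P) ∧
      mm (o2 P) = Nat.card A := by
  set V := zl (S : Subgroup G) P with hV
  set A0 := A ⊓ centralizer (V : Set G) with hA0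
  have hA0Q : A0 ≤ o2 P := by
    intro a ha
    refine h.two (hA.AP ha.1) (fun v hv => (mem_centralizer_iff.1 ha.2 v hv).symm) ⟨1, ?_⟩
    rw [pow_one, pow_two]
    exact hA.sq ha.1
  have hVe : IsElementaryAbelian 2 V := isElementaryAbelian_iff.2
    ⟨fun x hx y hy => h.ev.comm_mem hx hy, fun x hx => by rw [pow_two]; exact h.ev.sq_mem hx⟩
  have hcm : ∀ a ∈ A0, ∀ v ∈ V, a * v = v * a := fun a ha v hv => h.VcQ (hA0Q ha) hv
  have he := sup_elem (isElementaryAbelian_mono hA.elem inf_le_left) hVe hcm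
  have hQ : A0 ⊔ V ≤ o2 P := sup_le hA0Q h.VQ
  have h1 := card_sup_comm hcm
  obtain ⟨a, ha, ha'⟩ := hA.ex
  have h2 : 2 * Nat.card ↥(A0 ⊓ V) ≤ Nat.card V := by
    refine two_mul_card_le inf_le_right fun hle => ?_
    -- `A` does not centralise `z_i`
    have h3 := (hle (zz_mem h.ev i)).1.1
    have h4 := (h.ev.fixes_iff h.three ha' i).1 (elem_comm hA.elem a ha _ h3)
    rw [Equiv.swap_apply_left] at h4
    exact hij h4.symm
  have h3 : Nat.card A ≤ Nat.card ↥(A0 ⊔ V : Subgroup G) := by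
    have hp : 0 < Nat.card ↥(A0 ⊓ V) := Nat.card_pos
    have h4 : Nat.card A * Nat.card ↥(A0 ⊓ V) ≤ Nat.card ↥(A0 ⊔ V : Subgroup G) * Nat.card ↥(A0 ⊓ V) := by
      rw [h1, hA.card_A0 h hij]
      calc 2 * Nat.card A0 * Nat.card ↥(A0 ⊓ V) = Nat.card A0 * (2 * Nat.card ↥(A0 ⊓ V)) := by ring
        _ ≤ Nat.card A0 * Nat.card V := Nat.mul_le_mul_left _ h2
    exact Nat.le_of_mul_le_mul_right h4 hp
  have h4 : A0 ⊔ V ∈ AA (o2 P) := ⟨he, hQ, fun B hB _ => (hA.card B hB).trans h3⟩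
  exact ⟨le_sup_left.trans (le_jj h4), (mm_eq h4).trans (le_antisymm (hA.card _ he) h3)⟩

/-- **`A` is a transvection on every `X ≥ V` which is centralised by `C_A(V)`.** -/
theorem transv (hij : i ≠ j) {X : Subgroup G} (hX : IsElementaryAbelian 2 X)
    (hVX : zl (S : Subgroup G) P ≤ X)
    (hc : ∀ a ∈ A ⊓ centralizer (zl (S : Subgroup G) P : Set G), ∀ x ∈ X, a * x = x * a)
    {a x : G} (ha : a ∈ A) (hx : x ∈ X) : a * x * a⁻¹ = x ∨ a * x * a⁻¹ = x * rr ε i j := by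
  set V := zl (S : Subgroup G) P with hV
  set A0 := A ⊓ centralizer (V : Set G) with hA0
  have h1 := count hA.elem hX hA.card
  have h2 : A ⊓ centralizer (X : Set G) = A0 := by
    apply le_antisymm
    · exact fun b hb => ⟨hb.1, mem_centralizer_iff.2 fun v hv => mem_centralizer_iff.1 hb.2 v (hVX hv)⟩
    · exact fun b hb => ⟨hb.1, mem_centralizer_iff.2 fun v hv => (hc b hb v hv).symm⟩
  rw [h2, hA.card_A0 h hij] at h1
  set C := X ⊓ centralizer (A : Set G) with hC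
  have hA0p : 0 < Nat.card A0 := Nat.card_pos
  have h3 : Nat.card X ≤ 2 * Nat.card C := by
    have h4 : Nat.card A0 * Nat.card X ≤ Nat.card A0 * (2 * Nat.card C) := by
      calc Nat.card A0 * Nat.card X = Nat.card X * Nat.card A0 := mul_comm _ _
        _ ≤ 2 * Nat.card A0 * Nat.card C := h1
        _ = Nat.card A0 * (2 * Nat.card C) := by ring
    exact Nat.le_of_mul_le_mul_left h4 hA0p
  obtain ⟨b, hb, hb'⟩ := hA.ex
  have hcm : ∀ v ∈ V, ∀ c ∈ C, v * c = c * v := fun v hv c hc' => elem_comm hX v (hVX hv) c hc'.1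
  have h5 : C ≤ V ⊔ C := le_sup_right
  have h6 : ¬ V ⊔ C ≤ C := fun hle => by
    have h7 := mem_centralizer_iff.1 (hle (mem_sup_left (zz_mem h.ev i))).2 b hb
    have h8 := (h.ev.fixes_iff h.three hb' i).1 h7
    rw [Equiv.swap_apply_left] at h8
    exact hij h8.symm
  have h7 := two_mul_card_le h5 h6
  have h8 : V ⊔ C = X := Subgroup.eq_of_le_of_card_ge (sup_le hVX inf_le_left) (h3.trans h7)
  rw [← h8] at hx
  obtain ⟨v, hv, c, hc', rfl⟩ := mem_sup_comm hcm hx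
  have e1 : a * c * a⁻¹ = c := by
    rw [mem_centralizer_iff.1 hc'.2 a ha, mul_inv_cancel_right]
  have e2 : a * (v * c) * a⁻¹ = a * v * a⁻¹ * (a * c * a⁻¹) := by group
  rw [e2, e1]
  rcases hA.comm_V h ha hv with h9 | h9
  · left; rw [h9]
  · right
    rw [h9, mul_assoc, mul_assoc, hcm _ (rr_mem h.ev i j) c hc']

end Ex

end Cfsg.Agent.Omega.NSix.CaseJ.Exact

end

section


/-!
# OMEGA N6, case `J(S) ≰ O₂(P)`: `Ω₁(Z(O₂(P))) = V`, `Ω₁(Z(J(S))) ≤ V`, LEMMA Q (bb #16037 (1), (2), (2'))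

* `alt` : an element `u` of `Ω₁(Z(J(O₂(P))))` is in `V`, or `u^Q ⊇ V u`;
* `oz` : `Ω₁(Z(O₂(P))) = V`;
* `zj_le` : `Ω₁(Z(J(S))) ≤ V`;
* `core` : the step of LEMMA Q; `mem` : LEMMA Q.
-/

set_option autoImplicit false
set_option linter.unusedSectionVars false

namespace Cfsg.Agent.Omega.NSix.CaseJ.LemQ

open Subgroup Cfsg Cfsg.Agent.PLocal.ThompsonJ Cfsg.Agent.ZN Cfsg.Agent.ZN.ChoiceBase
open Cfsg.Agent.ZN.ChoiceSit Cfsg.Agent.PLocal.ElemAbSup
open Cfsg.Agent.MinSimple.VModule (mem_zc le_normalizer_zl)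
open Cfsg.Agent.Omega.MinPar
open Cfsg.Agent.Omega.S5.Def Cfsg.Agent.Omega.S5.Syl Cfsg.Agent.Omega.S5.Pair
open Cfsg.Agent.Omega.NSix.Base Cfsg.Agent.Omega.NSix.Basic
open Cfsg.Agent.Omega.SQ1.Bau (mem_AA_of_comm elem_comm elem_sq mem_sup_comm card_sup_comm)
open Cfsg.Agent.Omega.SQ1 (Bau.In.zj_elem Bau.In.zj_le)
open Cfsg.Agent.Omega.NSix.CaseJ.Base Cfsg.Agent.Omega.NSix.CaseJ.Exact

universe u

variable {G : Type u} [Group G]

/-! ### the module -/

section mod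

variable {m : ℕ} {V P : Subgroup G} {ε : (Fin (2 ^ m + 1) → ZMod 2) → G}

/-- The pairs generate `V`. -/
theorem V_le_of_rr (h : EvenSet (2 ^ m + 1) V P ε) (hm : 1 ≤ m) {W : Subgroup G}
    (hW : ∀ i, rr ε i 0 ∈ W) : V ≤ W := by
  intro v hv
  obtain ⟨x, rfl⟩ := h.surj v hv
  rw [← OfEven.eps_hat h]
  have hs := S5.Of.sum_hat hm x
  set y := S5.Of.hat x with hy
  let A : AddSubgroup (Fin (2 ^ m + 1) → ZMod 2) :=
    { carrier := {y | ε y ∈ W}
      add_mem' := by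
        intro a b ha hb
        change ε (a + b) ∈ W
        rw [h.add]
        exact mul_mem ha hb
      zero_mem' := by
        change ε 0 ∈ W
        rw [h.zero]
        exact one_mem W
      neg_mem' := by
        intro a ha
        change ε (-a) ∈ W
        have e : -a = a := by
          funext i
          exact CharTwo.neg_eq (a i)
        rw [e]
        exact ha }
  have h01 : ∀ a : ZMod 2, a = 0 ∨ a = 1 := by decide
  have e : y = ∑ i, y i • ((Pi.single i 1 + Pi.single 0 1 : Fin (2 ^ m + 1) → ZMod 2)) := by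
    funext k
    rw [Finset.sum_apply]
    simp only [Pi.smul_apply, Pi.add_apply, smul_eq_mul, mul_add]
    rw [Finset.sum_add_distrib]
    have e1 : ∑ i, y i * (Pi.single i 1 : Fin (2 ^ m + 1) → ZMod 2) k = y k := by
      rw [Finset.sum_eq_single k]
      · rw [Pi.single_eq_same, mul_one]
      · intro i _ hik
        rw [Pi.single_eq_of_ne (Ne.symm hik), mul_zero]
      · intro hk
        exact absurd (Finset.mem_univ k) hk
    have e2 : ∑ i, y i * (Pi.single 0 1 : Fin (2 ^ m + 1) → ZMod 2) k = 0 := by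
      rw [← Finset.sum_mul, hs, zero_mul]
    rw [e1, e2, add_zero]
  have h1 : y ∈ A := by
    rw [e]
    refine A.sum_mem fun i _ => ?_
    rcases h01 (y i) with h2 | h2
    · rw [h2, zero_smul]
      exact A.zero_mem
    · rw [h2, one_smul]
      change ε (Pi.single i 1 + Pi.single 0 1) ∈ W
      rw [h.add]
      exact hW i
  exact h1

/-- A nonzero vector has two different coordinates. -/
theorem exists_ne (h : EvenSet (2 ^ m + 1) V P ε) {x : Fin (2 ^ m + 1) → ZMod 2} (hx : ε x ≠ 1) :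
    ∃ i, x 0 ≠ x i := by
  by_contra hcon
  push Not at hcon
  apply hx
  have h01 : ∀ a : ZMod 2, a = 0 ∨ a = 1 := by decide
  rw [h.ker]
  rcases h01 (x 0) with h1 | h1
  · left
    funext i
    rw [← hcon i, h1]
    rfl
  · right
    funext i
    rw [← hcon i, h1]
    rfl

/-- A permutation fixing all points of `V`. -/
theorem ext_perm (Pm : Subgroup (Equiv.Perm (Fin (2 ^ m + 1)))) (hP : ∀ z, z ≠ 0 → Equiv.swap 0 z ∈ Pm)
    (σ : Equiv.Perm (Fin (2 ^ m + 1))) : σ ∈ Pm := by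
  rw [SQ1.FFSym.SyT.perm_top Pm hP]
  exact mem_top σ

end mod

variable [Finite G] {S : Sylow 2 G} {P : Subgroup G} {m : ℕ} {ε : (Fin (2 ^ m + 1) → ZMod 2) → G}

section

variable (h : Hyp S P ε)
include h

theorem V_elem : IsElementaryAbelian 2 (zl (S : Subgroup G) P) := isElementaryAbelian_iff.2
  ⟨fun x hx y hy => h.ev.comm_mem hx hy, fun x hx => by rw [pow_two]; exact h.ev.sq_mem hx⟩

theorem V_le_zjQ : zl (S : Subgroup G) P ≤ zj (o2 P) := by
  obtain ⟨ι, X, Y, N, t, r, -, hd⟩ := h.exists_dat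
  exact hd.bas.V_le_zjQ

theorem zj_le_zjQ : zj (S : Subgroup G) ≤ zj (o2 P) := by
  obtain ⟨ι, X, Y, N, t, r, -, hd⟩ := h.exists_dat
  exact hd.bas.Z_le_zjQ

theorem zjQ_norm {g y : G} (hg : g ∈ P) (hy : y ∈ zj (o2 P)) : g * y * g⁻¹ ∈ zj (o2 P) := by
  obtain ⟨ι, X, Y, N, t, r, -, hd⟩ := h.exists_dat
  exact hd.bas.zjQ_norm hg hy

theorem zjQ_norm' {g y : G} (hg : g ∈ P) (hy : y ∈ zj (o2 P)) : g⁻¹ * y * g ∈ zj (o2 P) := by
  have := zjQ_norm h (inv_mem hg) hy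
  rwa [inv_inv] at this

theorem Vn' {g x : G} (hg : g ∈ P) (hx : x ∈ zl (S : Subgroup G) P) :
    g⁻¹ * x * g ∈ zl (S : Subgroup G) P := by
  have := h.Vn (inv_mem hg) hx
  rwa [inv_inv] at this

/-- `zj Q` is abelian. -/
theorem zjQ_comm {x y : G} (hx : x ∈ zj (o2 P)) (hy : y ∈ zj (o2 P)) : x * y = y * x :=
  elem_comm (Bau.In.zj_elem (o2 P)) x hx y hy

theorem zjQ_sq {x : G} (hx : x ∈ zj (o2 P)) : x * x = 1 := by
  have := elem_sq (Bau.In.zj_elem (o2 P)) x hx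
  rwa [pow_two] at this

theorem VcY {x v : G} (hx : x ∈ zj (o2 P)) (hv : v ∈ zl (S : Subgroup G) P) : x * v = v * x :=
  zjQ_comm h hx (V_le_zjQ h hv)

/-- `[J(S)^g, zj Q] ≤ V`. -/
theorem comm_Y {g j y : G} (hg : g ∈ P) (hj : j ∈ jj (S : Subgroup G)) (hy : y ∈ zj (o2 P)) :
    (g * j * g⁻¹) * y * (g * j * g⁻¹)⁻¹ * y⁻¹ ∈ zl (S : Subgroup G) P := by
  obtain ⟨ι, X, Y, N, t, r, -, hd⟩ := h.exists_dat
  have h1 := h.Vn hg (hd.bas.jj_act j hj _ (zjQ_norm' h hg hy))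
  have e : (g * j * g⁻¹) * y * (g * j * g⁻¹)⁻¹ * y⁻¹ =
      g * (j * (g⁻¹ * y * g) * j⁻¹ * (g⁻¹ * y * g)⁻¹) * g⁻¹ := by group
  rw [e]
  exact h1

/-- Every transposition is induced by a conjugate of an element of `J(S)`. -/
theorem swap_J {i j : Fin (2 ^ m + 1)} (hij : i ≠ j) : ∃ g ∈ P, ∃ b ∈ jj (S : Subgroup G),
    Acts ε (g * b * g⁻¹) (Equiv.swap i j) := by
  obtain ⟨A, hAA, p, q, hpq, hA⟩ := exists_ex_S h
  obtain ⟨b, hb, hb'⟩ := hA.ex
  obtain ⟨σ, h1, h2, -⟩ := exists_perm hpq hij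
  obtain ⟨g, hg, hσ⟩ := h.ev.full σ
  refine ⟨g, hg, b, le_jj hAA hb, ?_⟩
  have := hσ.conj hb'
  rwa [← Equiv.swap_apply_apply, h1, h2] at this

theorem jj_le_P : jj (S : Subgroup G) ≤ P := (jj_le _).trans h.SP

/-- `C_Y(J_P) = 1`. -/
theorem fixY {y : G} (hy : y ∈ zj (o2 P))
    (hc : ∀ g ∈ P, ∀ j ∈ jj (S : Subgroup G), (g * j * g⁻¹) * y = y * (g * j * g⁻¹)) : y = 1 := by
  by_contra hne
  let Y₀ : Subgroup G :=
    { carrier := {y | y ∈ zj (o2 P) ∧ ∀ g ∈ P, ∀ j ∈ jj (S : Subgroup G),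
        (g * j * g⁻¹) * y = y * (g * j * g⁻¹)}
      mul_mem' := by
        rintro a b ⟨ha, ha'⟩ ⟨hb, hb'⟩
        refine ⟨mul_mem ha hb, fun g hg j hj => ?_⟩
        calc (g * j * g⁻¹) * (a * b) = ((g * j * g⁻¹) * a) * b := by group
          _ = a * ((g * j * g⁻¹) * b) := by rw [ha' g hg j hj]; group
          _ = a * b * (g * j * g⁻¹) := by rw [hb' g hg j hj]; group
      one_mem' := ⟨one_mem _, fun g _ j _ => by rw [mul_one, one_mul]⟩
      inv_mem' := by
        rintro a ⟨ha, ha'⟩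
        refine ⟨inv_mem ha, fun g hg j hj => ?_⟩
        have := ha' g hg j hj
        calc (g * j * g⁻¹) * a⁻¹ = a⁻¹ * (a * (g * j * g⁻¹)) * a⁻¹ := by group
          _ = a⁻¹ * ((g * j * g⁻¹) * a) * a⁻¹ := by rw [this]
          _ = a⁻¹ * (g * j * g⁻¹) := by group }
  have hY₀ : IsPGroup 2 Y₀ := by
    rintro ⟨z, hz⟩
    refine ⟨1, Subtype.ext ?_⟩
    change z ^ 2 ^ 1 = 1
    rw [pow_one, pow_two]
    exact zjQ_sq h hz.1
  have hne' : Y₀ ≠ ⊥ := fun e => hne (mem_bot.1 (e ▸ (show y ∈ Y₀ from ⟨hy, hc⟩)))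
  have hSn : (S : Subgroup G) ≤ normalizer (Y₀ : Set G) := by
    have key : ∀ s ∈ (S : Subgroup G), ∀ z ∈ Y₀, s * z * s⁻¹ ∈ Y₀ := by
      rintro s hs z ⟨hz, hz'⟩
      refine ⟨zjQ_norm h (h.SP hs) hz, fun g hg j hj => ?_⟩
      have h1 := hz' (s⁻¹ * g) (mul_mem (inv_mem (h.SP hs)) hg) j hj
      calc g * j * g⁻¹ * (s * z * s⁻¹) = s * ((s⁻¹ * g) * j * (s⁻¹ * g)⁻¹ * z) * s⁻¹ := by group
        _ = s * (z * ((s⁻¹ * g) * j * (s⁻¹ * g)⁻¹)) * s⁻¹ := by rw [h1]
        _ = s * z * s⁻¹ * (g * j * g⁻¹) := by group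
    intro s hs
    rw [mem_normalizer_iff]
    refine fun z => ⟨key s hs z, fun hz => ?_⟩
    have h1 := key s⁻¹ (inv_mem hs) _ hz
    have e : s⁻¹ * (s * z * s⁻¹) * s⁻¹⁻¹ = z := by group
    rwa [e] at h1
  obtain ⟨v, ⟨hv, hv'⟩, hv1, hvS⟩ := Cfsg.Agent.Omega.Half.exists_fixed hY₀ hne' S.isPGroup' hSn
  have hvQ : v ∈ o2 P := Bau.In.zj_le _ hv
  have hvV : v ∈ zl (S : Subgroup G) P := by
    refine zc_le_zl _ _ (mem_zc.2 ⟨h.QS hvQ, fun s hs => ?_, by rw [pow_two]; exact zjQ_sq h hv⟩)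
    calc s * v = (s * v * s⁻¹) * s := by group
      _ = v * s := by rw [hvS s hs]
  obtain ⟨x, rfl⟩ := h.ev.surj v hvV
  obtain ⟨i, hi⟩ := exists_ne h.ev hv1
  have h0i : (0 : Fin (2 ^ m + 1)) ≠ i := fun e => hi (by rw [← e])
  obtain ⟨g, hg, b, hb, hgb⟩ := swap_J h h0i
  exact hi ((swap_comm_iff h.ev h.three h0i hgb x).1 (hv' g hg b hb))

/-- Dichotomy for `C_P(V)`. -/
theorem dich {u : G} (hu : u ∈ zj (o2 P)) :
    (∀ g ∈ P, (∀ v ∈ zl (S : Subgroup G) P, g * v = v * g) →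
      g * u * g⁻¹ * u⁻¹ ∈ zl (S : Subgroup G) P → g * u = u * g) ∨
      ∀ v ∈ zl (S : Subgroup G) P, ∃ q ∈ o2 P, q * u * q⁻¹ = v * u := by
  set V := zl (S : Subgroup G) P with hV
  by_cases hcase : ∀ g ∈ P, (∀ v ∈ V, g * v = v * g) → g * u * g⁻¹ * u⁻¹ ∈ V → g * u = u * g
  · exact Or.inl hcase
  right
  push Not at hcase
  obtain ⟨g, hg, hgV, hgu, hne⟩ := hcase
  set v₀ := g * u * g⁻¹ * u⁻¹ with hv₀
  have hv₀1 : v₀ ≠ 1 := by
    intro e
    apply hne
    calc g * u = v₀ * (u * g) := by rw [hv₀]; group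
      _ = u * g := by rw [e, one_mul]
  have hv₀2 : v₀ * v₀ = 1 := h.ev.sq_mem hgu
  obtain ⟨c, hc, Nn, hN⟩ := SQ1.SymCyc.exists_pow g 1
  have hpow : ∀ k : ℕ, g ^ k * u * (g ^ k)⁻¹ = v₀ ^ k * u := by
    intro k
    induction k with
    | zero => group
    | succ k ih =>
      have hgk : g * v₀ ^ k = v₀ ^ k * g := (Commute.pow_right (hgV v₀ hgu) k).eq
      calc g ^ (k + 1) * u * (g ^ (k + 1))⁻¹ = g * (g ^ k * u * (g ^ k)⁻¹) * g⁻¹ := by
            rw [pow_succ']; group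
        _ = (g * v₀ ^ k) * u * g⁻¹ := by rw [ih]; group
        _ = v₀ ^ k * (g * u * g⁻¹) := by rw [hgk]; group
        _ = v₀ ^ k * (v₀ * u) := by rw [hv₀]; group
        _ = v₀ ^ (k + 1) * u := by rw [pow_succ]; group
  have hvc : v₀ ^ c = v₀ := by
    have hc' : c = 2 * (c / 2) + 1 := by
      have : c % 2 = 1 := by simpa using hc
      omega
    rw [hc', pow_succ, pow_mul, pow_two, hv₀2, one_pow, one_mul]
  have hq : g ^ c ∈ o2 P := h.two (pow_mem hg c)
    (fun v hv => (Commute.pow_left (hgV v hv) c).eq) ⟨Nn, hN⟩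
  have hVY := V_le_zjQ h
  -- the subgroup `W`
  let W : Subgroup G :=
    { carrier := {v | v ∈ V ∧ ∃ q ∈ o2 P, q * u * q⁻¹ = v * u}
      mul_mem' := by
        rintro a b ⟨ha, q, hq, hqa⟩ ⟨hb, q', hq', hqb⟩
        refine ⟨mul_mem ha hb, q * q', mul_mem hq hq', ?_⟩
        calc q * q' * u * (q * q')⁻¹ = q * (q' * u * q'⁻¹) * q⁻¹ := by group
          _ = (q * b) * u * q⁻¹ := by rw [hqb]; group
          _ = b * (q * u * q⁻¹) := by rw [h.VcQ hq hb]; group
          _ = b * a * u := by rw [hqa]; group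
          _ = a * b * u := by rw [h.ev.comm_mem hb ha]
      one_mem' := ⟨one_mem _, 1, one_mem _, by group⟩
      inv_mem' := by
        rintro a ⟨ha, q, hq, hqa⟩
        refine ⟨inv_mem ha, q⁻¹, inv_mem hq, ?_⟩
        have e1 : u = q⁻¹ * (q * u * q⁻¹) * q := by group
        have e2 : a * q = q * a := (h.VcQ hq ha).symm
        have e3 : q⁻¹ * a = a * q⁻¹ := h.VcQ (inv_mem hq) ha
        calc q⁻¹ * u * q⁻¹⁻¹ = a⁻¹ * ((a * q⁻¹) * u * q) := by group
          _ = a⁻¹ * ((q⁻¹ * a) * u * q) := by rw [← e3]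
          _ = a⁻¹ * (q⁻¹ * (a * u) * q) := by group
          _ = a⁻¹ * u := by rw [← hqa]; group }
  have hv₀W : v₀ ∈ W := ⟨hgu, g ^ c, hq, by rw [hpow, hvc]⟩
  have hWn : ∀ k ∈ P, ∀ j ∈ jj (S : Subgroup G), ∀ v ∈ W, (k * j * k⁻¹) * v * (k * j * k⁻¹)⁻¹ ∈ W := by
    rintro k hk j hj v ⟨hv, q, hq, hqv⟩
    set s := k * j * k⁻¹ with hs
    have hsP : s ∈ P := mul_mem (mul_mem hk (jj_le_P h hj)) (inv_mem hk)
    have hw := comm_Y h hk hj hu
    rw [← hs] at hw
    set w := s * u * s⁻¹ * u⁻¹ with hwd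
    have hw' : s⁻¹ * w⁻¹ * s ∈ V := Vn' h hsP (inv_mem hw)
    have hsvV : s * v * s⁻¹ ∈ V := h.Vn hsP hv
    refine ⟨hsvV, s * q * s⁻¹, h.Qn hsP hq, ?_⟩
    have e1 : s⁻¹ * u * s = s⁻¹ * w⁻¹ * s * u := by
      rw [hwd]; group
    have e2 : q * (s⁻¹ * w⁻¹ * s) = (s⁻¹ * w⁻¹ * s) * q := h.VcQ hq hw'
    have e3 : w⁻¹ * (s * v * s⁻¹) = (s * v * s⁻¹) * w⁻¹ := h.ev.comm_mem (inv_mem hw) hsvV
    calc s * q * s⁻¹ * u * (s * q * s⁻¹)⁻¹ = s * (q * (s⁻¹ * u * s) * q⁻¹) * s⁻¹ := by group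
      _ = s * ((q * (s⁻¹ * w⁻¹ * s)) * u * q⁻¹) * s⁻¹ := by rw [e1]; group
      _ = s * ((s⁻¹ * w⁻¹ * s) * (q * u * q⁻¹)) * s⁻¹ := by rw [e2]; group
      _ = w⁻¹ * (s * v * s⁻¹) * (s * u * s⁻¹) := by rw [hqv]; group
      _ = (s * v * s⁻¹) * (w⁻¹ * (s * u * s⁻¹)) := by rw [e3]; group
      _ = (s * v * s⁻¹) * u := by rw [hwd]; group
  have hWV : V ≤ W := by
    obtain ⟨x, hx⟩ := h.ev.surj v₀ hgu
    rw [← hx] at hv₀1 hv₀W
    obtain ⟨i, hi⟩ := exists_ne h.ev hv₀1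
    have h0i : (0 : Fin (2 ^ m + 1)) ≠ i := fun e => hi (by rw [← e])
    obtain ⟨k, hk, b, hb, hkb⟩ := swap_J h h0i
    have h1 := mul_mem (inv_mem hv₀W) (hWn k hk b hb _ hv₀W)
    have h2 : rr ε 0 i ∈ W := by
      have e := (acts_swap h.ev hkb x).2 hi
      rw [e, ← rr_eq h.ev, inv_mul_cancel_left] at h1
      exact h1
    refine V_le_of_rr h.ev (by have := h.hm; omega) fun j => ?_
    by_cases hj0 : j = 0
    · subst hj0
      rw [rr_eq h.ev, add_self, h.ev.zero]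
      exact one_mem W
    by_cases hji : j = i
    · subst hji
      rw [rr_symm h.ev]
      exact h2
    obtain ⟨l, hl, b', hb', hlb⟩ := swap_J h (Ne.symm hji)
    have h3 := hWn l hl b' hb' _ h2
    rw [rr_conj hlb, Equiv.swap_apply_left, Equiv.swap_apply_of_ne_of_ne h0i (Ne.symm hj0)] at h3
    rw [rr_symm h.ev]
    exact h3
  exact fun v hv => (hWV hv).2

/-- **An element of `Ω₁(Z(J(Q)))` is in `V`, or `u^Q ⊇ V u`.** -/
theorem alt {u : G} (hu : u ∈ zj (o2 P)) : u ∈ zl (S : Subgroup G) P ∨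
    ∀ v ∈ zl (S : Subgroup G) P, ∃ q ∈ o2 P, q * u * q⁻¹ = v * u := by
  classical
  set V := zl (S : Subgroup G) P with hV
  rcases dich h hu with hK | hK
  swap
  · exact Or.inr hK
  left
  have hu2 := zjQ_sq h hu
  have hex : ∀ i : Fin (2 ^ m + 1), ∃ a : G, i ≠ 0 → a ∈ P ∧ Acts ε a (Equiv.swap 0 i) ∧
      (a * u * a⁻¹ = u ∨ a * u * a⁻¹ = u * rr ε 0 i) := by
    intro i
    by_cases hi : i = 0
    · exact ⟨1, fun h => absurd hi h⟩
    obtain ⟨A, hA⟩ := exists_ex h (Ne.symm hi)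
    obtain ⟨a, ha, ha'⟩ := hA.ex
    refine ⟨a, fun _ => ⟨hA.AP ha, ha', ?_⟩⟩
    refine hA.transv h (Ne.symm hi) (Bau.In.zj_elem (o2 P)) (V_le_zjQ h) (fun b hb x hx => ?_) ha hu
    exact (mem_zj.1 hx).2.2 b ((hA.A0_le h (Ne.symm hi)).1 hb)
  choose a ha using hex
  let x : Fin (2 ^ m + 1) → ZMod 2 := fun i => if i = 0 then 0 else if a i * u * (a i)⁻¹ = u then 0 else 1
  have hx0 : x 0 = 0 := if_pos rfl
  set w := u * ε x with hw
  have hεV : ε x ∈ V := h.ev.mem x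
  have hwY : w ∈ zj (o2 P) := mul_mem hu (V_le_zjQ h hεV)
  have haw : ∀ i, i ≠ 0 → a i * w = w * a i := by
    intro i hi
    obtain ⟨haP, hact, hau⟩ := ha i hi
    have e0 : a i * w = (a i * u * (a i)⁻¹) * (a i * ε x * (a i)⁻¹) * a i := by rw [hw]; group
    by_cases hc : a i * u * (a i)⁻¹ = u
    · have hxi : x i = 0 := by
        simp only [x]
        rw [if_neg hi, if_pos hc]
      have h1 := (acts_swap h.ev hact x).1 (hx0.trans hxi.symm)
      rw [e0, hc, h1, hw]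
      group
    · have hxi : x i = 1 := by
        simp only [x]
        rw [if_neg hi, if_neg hc]
      have h1 := (acts_swap h.ev hact x).2 (by rw [hx0, hxi]; exact zero_ne_one)
      have h2 := hau.resolve_left hc
      rw [← rr_eq h.ev] at h1
      rw [e0, h1, h2, hw]
      have e1 : rr ε 0 i * ε x = ε x * rr ε 0 i := h.ev.comm_mem (rr_mem h.ev 0 i) hεV
      calc u * rr ε 0 i * (ε x * rr ε 0 i) * a i = u * (rr ε 0 i * ε x) * rr ε 0 i * a i := by group
        _ = u * ε x * (rr ε 0 i * rr ε 0 i) * a i := by rw [e1]; group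
        _ = u * ε x * a i := by rw [rr_sq h.ev, mul_one]
  -- the subgroup `C`
  let C : Subgroup G :=
    { carrier := {g | g ∈ P ∧ g * u * g⁻¹ * u⁻¹ ∈ V ∧ g * w = w * g}
      mul_mem' := by
        rintro b c ⟨hb, hb', hb''⟩ ⟨hc, hc', hc''⟩
        refine ⟨mul_mem hb hc, ?_, ?_⟩
        · have e : b * c * u * (b * c)⁻¹ * u⁻¹ = (b * (c * u * c⁻¹ * u⁻¹) * b⁻¹) * (b * u * b⁻¹ * u⁻¹) := by
            group
          rw [e]
          exact mul_mem (h.Vn hb hc') hb'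
        · rw [mul_assoc, hc'', ← mul_assoc, hb'', mul_assoc]
      one_mem' := ⟨one_mem _, by simp, by simp⟩
      inv_mem' := by
        rintro b ⟨hb, hb', hb''⟩
        refine ⟨inv_mem hb, ?_, ?_⟩
        · have e : b⁻¹ * u * b⁻¹⁻¹ * u⁻¹ = b⁻¹ * (b * u * b⁻¹ * u⁻¹)⁻¹ * b := by group
          rw [e]
          exact Vn' h hb (inv_mem hb')
        · calc b⁻¹ * w = b⁻¹ * (w * b) * b⁻¹ := by group
            _ = b⁻¹ * (b * w) * b⁻¹ := by rw [hb'']
            _ = w * b⁻¹ := by group }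
  let Pm : Subgroup (Equiv.Perm (Fin (2 ^ m + 1))) :=
    { carrier := {σ | ∃ c ∈ C, Acts ε c σ}
      mul_mem' := by
        rintro σ τ ⟨b, hb, hb'⟩ ⟨c, hc, hc'⟩
        exact ⟨b * c, mul_mem hb hc, hb'.mul hc'⟩
      one_mem' := ⟨1, one_mem _, Acts.one⟩
      inv_mem' := by
        rintro σ ⟨b, hb, hb'⟩
        exact ⟨b⁻¹, inv_mem hb, hb'.inv⟩ }
  have hPm : ∀ σ, σ ∈ Pm := ext_perm Pm fun z hz => by
    obtain ⟨haP, hact, hau⟩ := ha z hz
    refine ⟨a z, ⟨haP, ?_, haw z hz⟩, hact⟩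
    rcases hau with h1 | h1
    · rw [h1, mul_inv_cancel]
      exact one_mem _
    · rw [h1]
      have e : u * rr ε 0 z * u⁻¹ = rr ε 0 z := by
        rw [VcY h hu (rr_mem h.ev 0 z), mul_inv_cancel_right]
      rw [e]
      exact rr_mem h.ev 0 z
  have hw1 : w = 1 := by
    refine fixY h hwY fun g hg j hj => ?_
    set k := g * j * g⁻¹ with hk
    have hkP : k ∈ P := mul_mem (mul_mem hg (jj_le_P h hj)) (inv_mem hg)
    have hku := comm_Y h hg hj hu
    rw [← hk] at hku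
    obtain ⟨σ, hσ⟩ := h.ev.perm k hkP
    obtain ⟨c, ⟨hcP, hcu, hcw⟩, hcσ⟩ := hPm σ
    have hck := h.ev.mem_centralizer_of_acts hσ hcσ
    have hckP : c⁻¹ * k ∈ P := mul_mem (inv_mem hcP) hkP
    have h1 : c⁻¹ * k * u * (c⁻¹ * k)⁻¹ * u⁻¹ ∈ V := by
      have e : c⁻¹ * k * u * (c⁻¹ * k)⁻¹ * u⁻¹ =
          (c⁻¹ * (k * u * k⁻¹ * u⁻¹) * c) * (c⁻¹ * (c * u * c⁻¹ * u⁻¹)⁻¹ * c) := by group
      rw [e]
      exact mul_mem (Vn' h hcP hku) (Vn' h hcP (inv_mem hcu))
    have h2 := hK _ hckP (fun v hv => (mem_centralizer_iff.1 hck v hv).symm) h1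
    have h3 : c⁻¹ * k * w = w * (c⁻¹ * k) := by
      rw [hw, ← mul_assoc, h2, mul_assoc, ← mem_centralizer_iff.1 hck _ hεV, mul_assoc]
    calc k * w = c * (c⁻¹ * k * w) := by group
      _ = (c * w) * (c⁻¹ * k) := by rw [h3]; group
      _ = w * k := by rw [hcw]; group
  have h5 : u = (ε x)⁻¹ := by
    rw [hw] at hw1
    exact eq_inv_of_mul_eq_one_left hw1
  rw [h5]
  exact inv_mem hεV

/-- **`Ω₁(Z(O₂(P))) = V`.** -/
theorem oz {u : G} (hu : u ∈ o2 P) (hu2 : u * u = 1) (hc : ∀ q ∈ o2 P, q * u = u * q) :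
    u ∈ zl (S : Subgroup G) P := by
  have h1 : u ∈ zj (o2 P) := by
    have h2 : ∀ y ∈ jj (o2 P), y * u = u * y := fun y hy => hc y (jj_le _ hy)
    exact mem_zj.2 ⟨mem_jj_of_comm hu (by rw [pow_two, hu2]) h2, by rw [pow_two, hu2], h2⟩
  rcases alt h h1 with h2 | h2
  · exact h2
  · exfalso
    obtain ⟨q, hq, hqu⟩ := h2 _ (zz_mem h.ev 0)
    rw [hc q hq, mul_inv_cancel_right, right_eq_mul] at hqu
    exact zz_ne_one h.ev h.three 0 hqu

/-- **`Ω₁(Z(J(S))) ≤ V`.** -/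
theorem zj_le : zj (S : Subgroup G) ≤ zl (S : Subgroup G) P := by
  intro u hu
  rcases alt h (zj_le_zjQ h hu) with h1 | h1
  · exact h1
  exfalso
  have hV : zl (S : Subgroup G) P ≤ zj (S : Subgroup G) := by
    intro v hv
    obtain ⟨q, hq, hqu⟩ := h1 v hv
    have h2 : q * u * q⁻¹ ∈ zj (S : Subgroup G) := SQ1.Bau.In.T_norm_Z _ (h.QS hq) hu
    rw [hqu] at h2
    have := mul_mem h2 (inv_mem hu)
    rwa [mul_inv_cancel_right] at this
  apply h.nJ
  intro j hj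
  exact h.cS (jj_le _ hj) fun v hv => (mem_zj.1 (hV hv)).2.2 j hj

/-- `v ∈ V` is in `Ω₁(Z(J(S)))` iff it is centralised by `J(S)`. -/
theorem mem_zj_iff {v : G} : v ∈ zj (S : Subgroup G) ↔
    v ∈ zl (S : Subgroup G) P ∧ ∀ j ∈ jj (S : Subgroup G), j * v = v * j := by
  constructor
  · exact fun hv => ⟨zj_le h hv, (mem_zj.1 hv).2.2⟩
  · rintro ⟨hv, hc⟩
    have hv2 : v ^ 2 = 1 := by rw [pow_two]; exact h.ev.sq_mem hv
    exact mem_zj.2 ⟨mem_jj_of_comm (h.QS (h.VQ hv)) hv2 hc, hv2, hc⟩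

end

/-! ### LEMMA Q -/

/-- commuting with products -/
theorem comm_four {z y u u' : G} (h1 : z * y = y * z) (h2 : z * u = u * z) (h3 : z * u' = u' * z)
    {x : G} (hx : x = y ∨ x = y * u ∨ x = y * u' ∨ x = y * u * u') : z * x = x * z := by
  have c1 : Commute z y := h1
  have c2 : Commute z u := h2
  have c3 : Commute z u' := h3
  rcases hx with rfl | rfl | rfl | rfl
  · exact c1
  · exact c1.mul_right c2
  · exact c1.mul_right c3
  · exact (c1.mul_right c2).mul_right c3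

theorem comm_of_conj {z u : G} (h : z * u * z⁻¹ = u) : z * u = u * z := by
  calc z * u = (z * u * z⁻¹) * z := by group
    _ = u * z := by rw [h]

section core

variable (h : Hyp S P ε) {i j : Fin (2 ^ m + 1)} {A : Subgroup G} (hA : Ex P ε i j A) (hij : i ≠ j)
  {R : Subgroup G} {u v a u' : G} (hAR : A ⊓ centralizer (zl (S : Subgroup G) P : Set G) ≤ R)
  (hu : u ∈ o2 P) (hu2 : u * u = 1) (hv : v ∈ zl (S : Subgroup G) P)
  (huR : ∀ r ∈ R, r * u * r⁻¹ = u ∨ r * u * r⁻¹ = v * u)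
  (ha : a ∈ A) (ha' : Acts ε a (Equiv.swap i j)) (hva : a * v * a⁻¹ ≠ v)
  (hu' : u' = a * u * a⁻¹) (hc : u * u' = u' * u)
include h hA hij hAR hu hu2 hv huR ha ha' hva hu' hc

/-- **The step of LEMMA Q**: `u^a ∈ V u`. -/
theorem core : ∃ w ∈ zl (S : Subgroup G) P, u' = w * u := by
  classical
  obtain ⟨V, hV⟩ : ∃ V, V = zl (S : Subgroup G) P := ⟨_, rfl⟩
  rw [← hV] at hv hAR ⊢
  set A0 := A ⊓ centralizer (V : Set G) with hA0
  have haP := hA.AP ha
  have haa : a * a = 1 := hA.sq ha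
  have hVQ : V ≤ o2 P := hV ▸ h.VQ
  have hVcQ : ∀ {x v : G}, x ∈ o2 P → v ∈ V → x * v = v * x := fun hx hv => h.VcQ hx (hV ▸ hv)
  have hVn : ∀ {g x : G}, g ∈ P → x ∈ V → g * x * g⁻¹ ∈ V := fun hg hx => by
    rw [hV] at hx ⊢
    exact h.Vn hg hx
  have hu'Q : u' ∈ o2 P := hu' ▸ h.Qn haP hu
  have hu'2 : u' * u' = 1 := by
    calc u' * u' = a * (u * u) * a⁻¹ := by rw [hu']; group
      _ = 1 := by rw [hu2]; group
  have hau' : a * u' * a⁻¹ = u := by
    calc a * u' * a⁻¹ = (a * a) * u * (a * a)⁻¹ := by rw [hu']; group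
      _ = u := by rw [haa]; group
  have hVe : IsElementaryAbelian 2 V := hV ▸ V_elem h
  -- `X = V ⟨u⟩ ⟨u'⟩`
  set X1 := V ⊔ zpowers u with hX1
  have hVu : ∀ x ∈ V, ∀ y ∈ zpowers u, x * y = y * x := by
    intro x hx y hy
    rcases mem_zp hu2 hy with rfl | rfl
    · rw [mul_one, one_mul]
    · exact (hVcQ hu hx).symm
  have hX1e : IsElementaryAbelian 2 X1 := sup_elem hVe (zp_elem hu2) hVu
  have hX1c : ∀ x ∈ X1, x * u' = u' * x := by
    intro x hx
    obtain ⟨y, hy, z, hz, rfl⟩ := mem_sup_comm hVu hx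
    have e1 : y * u' = u' * y := (hVcQ hu'Q hy).symm
    rcases mem_zp hu2 hz with rfl | rfl
    · rw [mul_one]; exact e1
    · rw [mul_assoc, hc, ← mul_assoc, e1, mul_assoc]
  set X := X1 ⊔ zpowers u' with hX
  have hX1u : ∀ x ∈ X1, ∀ y ∈ zpowers u', x * y = y * x := by
    intro x hx y hy
    rcases mem_zp hu'2 hy with rfl | rfl
    · rw [mul_one, one_mul]
    · exact hX1c x hx
  have hXe : IsElementaryAbelian 2 X := sup_elem hX1e (zp_elem hu'2) hX1u
  have hVX : V ≤ X := le_sup_left.trans le_sup_left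
  have huX : u ∈ X := mem_sup_left (mem_sup_right (mem_zpowers u))
  have hu'X : u' ∈ X := mem_sup_right (mem_zpowers u')
  have hmemX : ∀ x ∈ X, ∃ y ∈ V, x = y ∨ x = y * u ∨ x = y * u' ∨ x = y * u * u' := by
    intro x hx
    obtain ⟨y, hy, z, hz, rfl⟩ := mem_sup_comm hX1u hx
    obtain ⟨w, hw, t, ht, rfl⟩ := mem_sup_comm hVu hy
    refine ⟨w, hw, ?_⟩
    rcases mem_zp hu2 ht with rfl | rfl <;> rcases mem_zp hu'2 hz with rfl | rfl
    · left; rw [mul_one, mul_one]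
    · right; right; left; rw [mul_one]
    · right; left; rw [mul_one]
    · right; right; right; rfl
  have hVc : ∀ b ∈ A0, ∀ y ∈ V, b * y = y * b := fun b hb y hy =>
    (mem_centralizer_iff.1 hb.2 y hy).symm
  have hbu' : ∀ b ∈ A0, b * u' * b⁻¹ = a * (b * u * b⁻¹) * a⁻¹ := by
    intro b hb
    have e : b * a = a * b := elem_comm hA.elem b hb.1 a ha
    calc b * u' * b⁻¹ = (b * a) * u * (b * a)⁻¹ := by rw [hu']; group
      _ = a * (b * u * b⁻¹) * a⁻¹ := by rw [e]; group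
  -- an element of `A0` centralising `u` centralises `X`
  have hcX : ∀ b ∈ A0, b * u * b⁻¹ = u → ∀ x ∈ X, b * x = x * b := by
    intro b hb hbu x hx
    obtain ⟨y, hy, hxy⟩ := hmemX x hx
    refine comm_four (hVc b hb y hy) (comm_of_conj hbu) (comm_of_conj ?_) hxy
    rw [hbu' b hb, hbu, hu']
  by_cases hcase : ∀ b ∈ A0, b * u * b⁻¹ = u
  · -- `A0` centralises `X`
    have h1 := hA.transv h hij hXe (hV ▸ hVX) (fun b hb x hx => by
      rw [← hV] at hb
      exact hcX b hb (hcase b hb) x hx) ha huX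
    rw [← hu'] at h1
    rcases h1 with h1 | h1
    · exact ⟨1, one_mem _, by rw [one_mul]; exact h1⟩
    · exact ⟨rr ε i j, hV ▸ rr_mem h.ev i j, by
        rw [h1]
        exact hVcQ hu (hV ▸ rr_mem h.ev i j)⟩
  · -- `A0` moves `u`
    push Not at hcase
    obtain ⟨b₀, hb₀, hb₀u⟩ := hcase
    have hb₀u' := (huR b₀ (hAR hb₀)).resolve_left hb₀u
    by_contra hcon
    push Not at hcon
    have hv1 : v ≠ 1 := fun e => hb₀u (by rw [hb₀u', e, one_mul])
    obtain ⟨v', hv'⟩ : ∃ v', v' = a * v * a⁻¹ := ⟨_, rfl⟩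
    rw [← hv'] at hva
    have hv'V : v' ∈ V := hv' ▸ hVn haP hv
    have hv'1 : v' ≠ 1 := by
      intro e
      apply hv1
      calc v = a⁻¹ * v' * a := by rw [hv']; group
        _ = 1 := by rw [e]; group
    have hb₀u'' : b₀ * u' * b₀⁻¹ = v' * u' := by
      rw [hbu' b₀ hb₀, hb₀u', hv', hu']
      group
    have hb₀y : ∀ y ∈ V, b₀ * y * b₀⁻¹ = y := fun y hy => by
      rw [hVc b₀ hb₀ y hy, mul_inv_cancel_right]
    -- `C_X(b₀) = V`
    have hCX : ∀ x ∈ X, b₀ * x * b₀⁻¹ = x → x ∈ V := by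
      intro x hx hfix
      obtain ⟨y, hy, rfl | rfl | rfl | rfl⟩ := hmemX x hx
      · exact hy
      · exfalso
        have e : b₀ * (y * u) * b₀⁻¹ = (b₀ * y * b₀⁻¹) * (b₀ * u * b₀⁻¹) := by group
        rw [e, hb₀y y hy, hb₀u'] at hfix
        exact hv1 (mul_eq_right.1 (mul_left_cancel hfix))
      · exfalso
        have e : b₀ * (y * u') * b₀⁻¹ = (b₀ * y * b₀⁻¹) * (b₀ * u' * b₀⁻¹) := by group
        rw [e, hb₀y y hy, hb₀u''] at hfix
        exact hv'1 (mul_eq_right.1 (mul_left_cancel hfix))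
      · exfalso
        have e : b₀ * (y * u * u') * b₀⁻¹ = (b₀ * y * b₀⁻¹) * ((b₀ * u * b₀⁻¹) * (b₀ * u' * b₀⁻¹)) := by
          group
        rw [e, hb₀y y hy, hb₀u', hb₀u'', mul_assoc y u u'] at hfix
        have h1 := mul_left_cancel hfix
        have h2 : u * v' = v' * u := hVcQ hu hv'V
        have h3 : v * v' * (u * u') = u * u' := by
          calc v * v' * (u * u') = v * (v' * u) * u' := by group
            _ = v * (u * v') * u' := by rw [h2]
            _ = v * u * (v' * u') := by group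
            _ = u * u' := h1
        have h4 : v * v' = 1 := mul_eq_right.1 h3
        apply hva
        calc v' = v⁻¹ * (v * v') := by group
          _ = v⁻¹ := by rw [h4, mul_one]
          _ = v := inv_eq_of_mul_eq_one_left (h.ev.sq_mem (hV ▸ hv))
    have huV : u ∉ V := fun hh => hb₀u (hb₀y u hh)
    have hu'V : u' ∉ V := fun hh => huV (by
      have := hVn haP hh
      rwa [hau'] at this)
    have hcard1 : Nat.card X1 = 2 * Nat.card V := card_sup_zp hu2 huV fun y hy => (hVcQ hu hy).symm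
    have hu'X1 : u' ∉ X1 := by
      intro hh
      obtain ⟨y, hy, z, hz, e⟩ := mem_sup_comm hVu hh
      rcases mem_zp hu2 hz with h1 | h1
      · rw [h1, mul_one] at e
        exact hu'V (e ▸ hy)
      · rw [h1] at e
        exact hcon y hy e
    have hcard2 : Nat.card X = 2 * Nat.card X1 := card_sup_zp hu'2 hu'X1 hX1c
    -- `C_X(A) < V`
    have hCA : X ⊓ centralizer (A : Set G) ≤ V := fun x hx => hCX x hx.1 (by
      rw [mem_centralizer_iff.1 hx.2 b₀ hb₀.1, mul_inv_cancel_right])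
    have hCA' : ¬ V ≤ X ⊓ centralizer (A : Set G) := fun hle => by
      have h1 := mem_centralizer_iff.1 (hle (hV ▸ zz_mem h.ev i)).2 a ha
      have h2 := (h.ev.fixes_iff h.three ha' i).1 h1
      rw [Equiv.swap_apply_left] at h2
      exact hij h2.symm
    have hcard3 := two_mul_card_le hCA hCA'
    -- `|A| ≤ 4 |C_A(X)|`
    have hcard4 : Nat.card A0 ≤ 2 * Nat.card ↥(A ⊓ centralizer (X : Set G)) := by
      refine card_le_two (c := b₀) fun y hy hyC => ?_
      have hyu : y * u * y⁻¹ ≠ u := fun e => hyC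
        ⟨hy.1, mem_centralizer_iff.2 fun x hx => (hcX y hy e x hx).symm⟩
      have hyu' := (huR y (hAR hy)).resolve_left hyu
      have hb : b₀⁻¹ * y ∈ A0 := mul_mem (inv_mem hb₀) hy
      have e3 : b₀⁻¹ * y * u * (b₀⁻¹ * y)⁻¹ = u := by
        calc b₀⁻¹ * y * u * (b₀⁻¹ * y)⁻¹ = b₀⁻¹ * (y * u * y⁻¹) * b₀ := by group
          _ = b₀⁻¹ * (b₀ * u * b₀⁻¹) * b₀ := by rw [hyu', hb₀u']
          _ = u := by group
      exact ⟨hb.1, mem_centralizer_iff.2 fun x hx => (hcX _ hb e3 x hx).symm⟩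
    have h1 := count hA.elem hXe hA.card
    have h2 := hA.card_A0 h hij
    rw [← hV, ← hA0] at h2
    have hp : 0 < Nat.card V := Nat.card_pos
    have hp2 : 0 < Nat.card ↥(A ⊓ centralizer (X : Set G)) := Nat.card_pos
    have h3 : Nat.card A ≤ 4 * Nat.card ↥(A ⊓ centralizer (X : Set G)) := by omega
    have h4 : 2 * (Nat.card X * Nat.card ↥(A ⊓ centralizer (X : Set G))) ≤ Nat.card A * Nat.card V := by
      calc 2 * (Nat.card X * Nat.card ↥(A ⊓ centralizer (X : Set G)))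
          ≤ 2 * (Nat.card A * Nat.card ↥(X ⊓ centralizer (A : Set G))) := Nat.mul_le_mul_left _ h1
        _ = Nat.card A * (2 * Nat.card ↥(X ⊓ centralizer (A : Set G))) := by ring
        _ ≤ Nat.card A * Nat.card V := Nat.mul_le_mul_left _ hcard3
    have h5 : Nat.card X = 4 * Nat.card V := by rw [hcard2, hcard1]; ring
    rw [h5] at h4
    have h6 : Nat.card A * Nat.card V ≤ 4 * Nat.card ↥(A ⊓ centralizer (X : Set G)) * Nat.card V :=
      Nat.mul_le_mul_right _ h3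
    nlinarith [Nat.mul_pos hp hp2]

end core

/-- **LEMMA Q.** -/
theorem mem (h : Hyp S P ε) {u v : G} (hu : u ∈ o2 P) (hu2 : u * u = 1)
    (hv : v ∈ zl (S : Subgroup G) P) (hv1 : v ≠ 1)
    (hc : ∀ q ∈ o2 P, q * u * q⁻¹ = u ∨ q * u * q⁻¹ = v * u) : u ∈ zl (S : Subgroup G) P := by
  obtain ⟨x, hx⟩ := h.ev.surj v hv
  obtain ⟨j, hj⟩ := exists_ne h.ev (x := x) (by rw [hx]; exact hv1)
  have h0j : (0 : Fin (2 ^ m + 1)) ≠ j := fun e => hj (by rw [← e])
  obtain ⟨A, hA⟩ := exists_ex h h0j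
  obtain ⟨a, ha, ha'⟩ := hA.ex
  have haP := hA.AP ha
  have hva : a * v * a⁻¹ ≠ v := by
    intro e
    rw [← hx] at e
    exact hj ((swap_comm_iff h.ev h.three h0j ha' x).1 (comm_of_conj e))
  have hvv : v * v = 1 := h.ev.sq_mem hv
  obtain ⟨u', hu'⟩ : ∃ u', u' = a * u * a⁻¹ := ⟨_, rfl⟩
  obtain ⟨v', hv'⟩ : ∃ v', v' = a * v * a⁻¹ := ⟨_, rfl⟩
  have hu'Q : u' ∈ o2 P := hu' ▸ h.Qn haP hu
  have hu'2 : u' * u' = 1 := by
    calc u' * u' = a * (u * u) * a⁻¹ := by rw [hu']; group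
      _ = 1 := by rw [hu2]; group
  have hv'V : v' ∈ zl (S : Subgroup G) P := hv' ▸ h.Vn haP hv
  -- `[u', q] ∈ ⟨v^a⟩`
  have hc' : ∀ q ∈ o2 P, q * u' * q⁻¹ = u' ∨ q * u' * q⁻¹ = v' * u' := by
    intro q hq
    have hq' : a⁻¹ * q * a ∈ o2 P := by
      have := h.Qn (inv_mem haP) hq
      rwa [inv_inv] at this
    have e : q * u' * q⁻¹ = a * ((a⁻¹ * q * a) * u * (a⁻¹ * q * a)⁻¹) * a⁻¹ := by rw [hu']; group
    rcases hc _ hq' with h1 | h1
    · left; rw [e, h1, hu']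
    · right; rw [e, h1, hu', hv']; group
  have hcomm : u * u' = u' * u := by
    rcases hc u' hu'Q with h1 | h1
    · exact (comm_of_conj h1).symm
    · rcases hc' u hu with h2 | h2
      · exact comm_of_conj h2
      · exfalso
        apply hva
        have hui : u⁻¹ = u := inv_eq_of_mul_eq_one_left hu2
        have hui' : u'⁻¹ = u' := inv_eq_of_mul_eq_one_left hu'2
        rw [hui'] at h1
        rw [hui] at h2
        have e1 : v = u' * u * u' * u := by rw [h1, mul_assoc, hu2, mul_one]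
        have e2 : v' = u * u' * u * u' := by rw [h2, mul_assoc, hu'2, mul_one]
        have e3 : v' * v = 1 := by
          calc v' * v = u * u' * u * u' * (u' * u * u' * u) := by rw [← e1, ← e2]
            _ = u * u' * u * (u' * u') * u * u' * u := by group
            _ = u * u' * (u * u) * u' * u := by rw [hu'2]; group
            _ = u * (u' * u') * u := by rw [hu2]; group
            _ = 1 := by rw [hu'2, mul_one, hu2]
        rw [← hv']
        calc v' = v' * v * v⁻¹ := by group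
          _ = v⁻¹ := by rw [e3, one_mul]
          _ = v := inv_eq_of_mul_eq_one_left hvv
  obtain ⟨w, hw, hw'⟩ := core h hA h0j (R := o2 P)
    ((hA.A0_le h h0j).1.trans (jj_le _)) hu hu2 hv hc ha ha' hva hu' hcomm
  refine oz h hu hu2 fun q hq => ?_
  rcases hc q hq with h1 | h1
  · exact comm_of_conj h1
  · exfalso
    obtain ⟨q', hq'⟩ : ∃ q', q' = a * q * a⁻¹ := ⟨_, rfl⟩
    have hq'Q : q' ∈ o2 P := hq' ▸ h.Qn haP hq
    -- `q' (w u) q'⁻¹ = v^a w u`
    have e1 : q' * u' * q'⁻¹ = v' * u' := by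
      calc q' * u' * q'⁻¹ = a * (q * u * q⁻¹) * a⁻¹ := by rw [hq', hu']; group
        _ = v' * u' := by rw [h1, hu', hv']; group
    rw [hw'] at e1
    have e2 : q' * (w * u) * q'⁻¹ = w * (q' * u * q'⁻¹) := by
      calc q' * (w * u) * q'⁻¹ = (q' * w) * u * q'⁻¹ := by group
        _ = w * (q' * u * q'⁻¹) := by rw [h.VcQ hq'Q hw]; group
    rw [e2, ← mul_assoc v', h.ev.comm_mem hv'V hw, mul_assoc w v'] at e1
    have e3 := mul_left_cancel e1
    rcases hc q' hq'Q with h2 | h2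
    · rw [h2, right_eq_mul] at e3
      apply hv1
      calc v = a⁻¹ * v' * a := by rw [hv']; group
        _ = 1 := by rw [e3]; group
    · rw [h2] at e3
      rw [← hv'] at hva
      exact hva (mul_right_cancel e3).symm

end Cfsg.Agent.Omega.NSix.CaseJ.LemQ

end

section


/-!
# OMEGA N6, case `J(S) ≰ O₂(P)`: LEMMA N

`main` : `V^g ≤ Q ≤ N_G(V^g)` implies `V^g = V`.
-/

set_option autoImplicit false
set_option linter.unusedSectionVars false

namespace Cfsg.Agent.Omega.NSix.CaseJ.LemN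

open Subgroup Cfsg Cfsg.Agent.PLocal.ThompsonJ Cfsg.Agent.ZN Cfsg.Agent.ZN.ChoiceBase
open Cfsg.Agent.Omega.MinPar
open Cfsg.Agent.Omega.S5.Def Cfsg.Agent.Omega.S5.Syl Cfsg.Agent.Omega.S5.Pair
open Cfsg.Agent.Omega.NSix.Base Cfsg.Agent.Omega.NSix.Basic
open Cfsg.Agent.Omega.NSix.CaseJ.Base

universe u

/-- A proper subgroup of a 2-group is contained in a subgroup of index 2. -/
theorem exists_index_two {R : Type*} [Group R] [Finite R] (hR : IsPGroup 2 R) {K : Subgroup R}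
    (hK : K ≠ ⊤) : ∃ K₁ : Subgroup R, K ≤ K₁ ∧ K₁.index = 2 := by
  have : Fact (Nat.Prime 2) := ⟨Nat.prime_two⟩
  obtain ⟨a, ha⟩ := IsPGroup.iff_card.1 hR
  obtain ⟨b, hb⟩ := IsPGroup.iff_card.1 (hR.to_subgroup K)
  have h1 : b < a := by
    by_contra hab
    apply hK
    apply Subgroup.eq_top_of_le_card
    rw [ha, hb]
    exact Nat.pow_le_pow_right (by norm_num) (by omega)
  obtain ⟨K₁, hc, hKK⟩ := Sylow.exists_subgroup_card_pow_prime_le (G := R) 2 (n := b) (m := a - 1)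
    (by rw [ha]; exact pow_dvd_pow 2 (by omega)) K hb (by omega)
  refine ⟨K₁, hKK, ?_⟩
  have h2 := K₁.card_mul_index
  rw [hc, ha] at h2
  have h3 : 2 ^ a = 2 ^ (a - 1) * 2 := by
    rw [← pow_succ]; congr 1; omega
  rw [h3] at h2
  exact Nat.eq_of_mul_eq_mul_left (by positivity) h2

section perm

variable {Ω : Type*} {R : Type*} [Group R] [Finite R] (π : R →* Equiv.Perm Ω) {x : Ω}

open Classical in
/-- Half of an orbit of a 2-group. -/
theorem half (hR : IsPGroup 2 R) (hx : ∃ q, π q x ≠ x) : ∃ (K₁ : Subgroup R) (e₁ e : Ω → ZMod 2),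
    (∃ k, k ∉ K₁) ∧ e x = 1 ∧ (∀ k, e ∘ (π k).symm = e) ∧ (∀ k ∈ K₁, e₁ ∘ (π k).symm = e₁) ∧
      ∀ k, k ∉ K₁ → e₁ ∘ (π k).symm = e + e₁ := by
  set K : Subgroup R := (MulAction.stabilizer (Equiv.Perm Ω) x).comap π with hK
  have hmem : ∀ k : R, k ∈ K ↔ π k x = x := fun k => Iff.rfl
  have hKt : K ≠ ⊤ := by
    intro h0
    obtain ⟨q, hq⟩ := hx
    exact hq ((hmem q).1 (h0 ▸ mem_top q))
  obtain ⟨K₁, hKK, hi⟩ := exists_index_two hR hKt
  have hk₀ : ∃ k, k ∉ K₁ := by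
    by_contra hcon
    push Not at hcon
    have : K₁ = ⊤ := (Subgroup.eq_top_iff' K₁).2 hcon
    rw [this, Subgroup.index_top] at hi
    omega
  have hpi : ∀ (k k' : R), π (k * k') x = π k (π k' x) := fun k k' => by
    rw [map_mul, Equiv.Perm.mul_apply]
  have hsymm : ∀ (k : R) (y z : Ω), (π k).symm y = z ↔ π k z = y := fun k y z => by
    rw [Equiv.symm_apply_eq, eq_comm]
  refine ⟨K₁, fun y => if ∃ k ∈ K₁, π k x = y then 1 else 0, fun y => if ∃ k, π k x = y then 1 else 0,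
    hk₀, ?_, fun k => ?_, fun k hk => ?_, fun k hk => ?_⟩
  · exact if_pos ⟨1, by rw [map_one, Equiv.Perm.one_apply]⟩
  · funext y
    have h1 : (∃ k', π k' x = (π k).symm y) ↔ ∃ k', π k' x = y := by
      constructor
      · rintro ⟨k', hk'⟩
        exact ⟨k * k', by rw [hpi, hk', Equiv.apply_symm_apply]⟩
      · rintro ⟨k', hk'⟩
        refine ⟨k⁻¹ * k', ?_⟩
        rw [eq_comm, hsymm, ← hpi, mul_inv_cancel_left]
        exact hk'
    simp only [Function.comp_apply, h1]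
  · funext y
    have h1 : (∃ k' ∈ K₁, π k' x = (π k).symm y) ↔ ∃ k' ∈ K₁, π k' x = y := by
      constructor
      · rintro ⟨k', hk'K, hk'⟩
        exact ⟨k * k', mul_mem hk hk'K, by rw [hpi, hk', Equiv.apply_symm_apply]⟩
      · rintro ⟨k', hk'K, hk'⟩
        refine ⟨k⁻¹ * k', mul_mem (inv_mem hk) hk'K, ?_⟩
        rw [eq_comm, hsymm, ← hpi, mul_inv_cancel_left]
        exact hk'
    simp only [Function.comp_apply, h1]
  · funext y
    have h1 : (∃ k' ∈ K₁, π k' x = (π k).symm y) ↔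
        (∃ k', π k' x = y) ∧ ¬ ∃ k' ∈ K₁, π k' x = y := by
      constructor
      · rintro ⟨k', hk'K, hk'⟩
        have h2 : π (k * k') x = y := by rw [hpi, hk', Equiv.apply_symm_apply]
        refine ⟨⟨k * k', h2⟩, ?_⟩
        rintro ⟨l, hl, hl'⟩
        have h3 : l⁻¹ * (k * k') ∈ K := by
          rw [hmem, hpi, h2, ← hl', ← hpi, inv_mul_cancel, map_one, Equiv.Perm.one_apply]
        have h4 := mul_mem hl (hKK h3)
        rw [mul_inv_cancel_left] at h4
        have h5 := mul_mem h4 (inv_mem hk'K)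
        rw [mul_inv_cancel_right] at h5
        exact hk h5
      · rintro ⟨⟨k', hk'⟩, hno⟩
        refine ⟨k⁻¹ * k', ?_, ?_⟩
        · rw [Subgroup.mul_mem_iff_of_index_two hi]
          have h2 : k' ∉ K₁ := fun h0 => hno ⟨k', h0, hk'⟩
          constructor
          · intro h3
            exact absurd ((inv_mem_iff).1 h3) hk
          · exact fun h3 => absurd h3 h2
        · rw [eq_comm, hsymm, ← hpi, mul_inv_cancel_left]
          exact hk'
    simp only [Function.comp_apply, Pi.add_apply, h1]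
    by_cases h2 : ∃ k' ∈ K₁, π k' x = y
    · have h3 : ∃ k', π k' x = y := by
        obtain ⟨k', -, hk'⟩ := h2
        exact ⟨k', hk'⟩
      rw [if_pos h2, if_pos h3, if_neg (fun h0 => h0.2 h2)]
      decide
    · rw [if_neg h2, add_zero]
      by_cases h3 : ∃ k', π k' x = y
      · rw [if_pos h3, if_pos ⟨h3, h2⟩]
      · rw [if_neg h3, if_neg fun h0 => h3 h0.1]

end perm

variable {G : Type u} [Group G] [Finite G] {S : Sylow 2 G} {P : Subgroup G} {m : ℕ}
  {ε : (Fin (2 ^ m + 1) → ZMod 2) → G}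

/-- **LEMMA N.** -/
theorem main (h : Hyp S P ε) {g : G}
    (hQ : ∀ v ∈ zl (S : Subgroup G) P, g * v * g⁻¹ ∈ o2 P)
    (hn : ∀ q ∈ o2 P, ∀ v ∈ zl (S : Subgroup G) P,
      q * (g * v * g⁻¹) * q⁻¹ ∈ cj g (zl (S : Subgroup G) P)) :
    g ∈ normalizer (zl (S : Subgroup G) P : Set G) := by
  set V := zl (S : Subgroup G) P with hV
  have hm1 : 1 ≤ m := by have := h.hm; omega
  have hM : EvenSet (2 ^ m + 1) V (normalizer (V : Set G)) ε :=
    Cfsg.Agent.Omega.NSix.Norm.evenSet' h.hm S h.ev h.SP h.fix0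
  have hRM : cj g⁻¹ (o2 P) ≤ normalizer (V : Set G) := by
    rintro _ ⟨q, hq, rfl⟩
    refine mem_normalizer_of_cj_le ?_
    rintro _ ⟨v, hv, rfl⟩
    have h1 := hn q hq v hv
    rw [mem_cj] at h1
    change (g⁻¹ * q * g⁻¹⁻¹) * v * (g⁻¹ * q * g⁻¹⁻¹)⁻¹ ∈ V
    have e : (g⁻¹ * q * g⁻¹⁻¹) * v * (g⁻¹ * q * g⁻¹⁻¹)⁻¹ =
        g⁻¹ * (q * (g * v * g⁻¹) * q⁻¹) * g := by group
    rw [e]; exact h1
  let π : ↥(cj g⁻¹ (o2 P)) →* Equiv.Perm (Fin (2 ^ m + 1)) :=
    (hM.hom h.three).comp (Subgroup.inclusion hRM)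
  have hπ : ∀ k : ↥(cj g⁻¹ (o2 P)), Acts ε (k : G) (π k) := fun k =>
    hM.acts_hom h.three (Subgroup.inclusion hRM k)
  have hR : IsPGroup 2 ↥(cj g⁻¹ (o2 P)) := isPGroup_cj _ (MinSimple.VModule.o2_isPGroup P)
  have hqR : ∀ q ∈ o2 P, g⁻¹ * q * g ∈ cj g⁻¹ (o2 P) := fun q hq => by
    rw [mem_cj]
    have e : g⁻¹⁻¹ * (g⁻¹ * q * g) * g⁻¹ = q := by group
    rwa [e]
  have hconj : ∀ (q : G) (hq : q ∈ o2 P) (y : Fin (2 ^ m + 1) → ZMod 2),
      q * (g * ε y * g⁻¹) * q⁻¹ = g * ε (y ∘ (π ⟨_, hqR q hq⟩).symm) * g⁻¹ := by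
    intro q hq y
    rw [← hπ ⟨_, hqR q hq⟩ y]
    group
  by_cases hx : ∃ x q, π q x ≠ x
  · exfalso
    obtain ⟨x, hx⟩ := hx
    obtain ⟨K₁, e₁, e, ⟨k₀, hk₀⟩, hex, he, he₁, he₂⟩ := half π hR hx
    have hvQ := hQ _ (hM.mem e)
    have hv2 : (g * ε e * g⁻¹) * (g * ε e * g⁻¹) = 1 := by
      calc (g * ε e * g⁻¹) * (g * ε e * g⁻¹) = g * (ε e * ε e) * g⁻¹ := by group
        _ = 1 := by rw [hM.sq]; group
    have hvV : g * ε e * g⁻¹ ∈ V := by
      refine LemQ.oz h hvQ hv2 fun q hq => ?_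
      have h1 := hconj q hq e
      rw [he] at h1
      exact LemQ.comm_of_conj h1
    have hv1 : g * ε e * g⁻¹ ≠ 1 := by
      intro h0
      have h1 : ε e = 1 := by
        calc ε e = g⁻¹ * (g * ε e * g⁻¹) * g := by group
          _ = 1 := by rw [h0]; group
      rcases (hM.ker _).1 h1 with h2 | h2
      · rw [h2] at hex
        exact zero_ne_one hex
      · have h3 := he₂ k₀ hk₀
        have h4 : ∑ i, e i = 0 := by
          have h5 : e = e₁ ∘ (π k₀).symm + e₁ := by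
            rw [h3, add_assoc, add_self, add_zero]
          rw [h5]
          simp only [Pi.add_apply, Finset.sum_add_distrib, Function.comp_apply]
          rw [Equiv.sum_comp (π k₀).symm e₁]
          exact CharTwo.add_self_eq_zero _
        rw [h2] at h4
        simp only [Pi.one_apply, Finset.sum_const, Finset.card_univ, Fintype.card_fin, nsmul_eq_mul,
          mul_one] at h4
        rw [S5.Of.cast_odd hm1] at h4
        exact one_ne_zero h4
    have huV : g * ε e₁ * g⁻¹ ∈ V := by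
      refine LemQ.mem h (hQ _ (hM.mem e₁)) ?_ hvV hv1 fun q hq => ?_
      · calc (g * ε e₁ * g⁻¹) * (g * ε e₁ * g⁻¹) = g * (ε e₁ * ε e₁) * g⁻¹ := by group
          _ = 1 := by rw [hM.sq]; group
      · rw [hconj q hq e₁]
        by_cases hk : (⟨_, hqR q hq⟩ : ↥(cj g⁻¹ (o2 P))) ∈ K₁
        · left; rw [he₁ _ hk]
        · right; rw [he₂ _ hk, hM.add]; group
    -- the element `g k₀ g⁻¹` of `Q`
    have hk₀R := k₀.2
    rw [mem_cj, inv_inv] at hk₀R
    have h1 := hconj _ hk₀R e₁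
    have e3 : (⟨g⁻¹ * (g * (k₀ : G) * g⁻¹) * g, hqR _ hk₀R⟩ : ↥(cj g⁻¹ (o2 P))) = k₀ := by
      apply Subtype.ext
      show g⁻¹ * (g * (k₀ : G) * g⁻¹) * g = k₀
      group
    rw [e3, he₂ _ hk₀, h.VcQ hk₀R huV, mul_inv_cancel_right, hM.add] at h1
    apply hv1
    have h2 : g * ε e₁ * g⁻¹ = (g * ε e * g⁻¹) * (g * ε e₁ * g⁻¹) := h1.trans (by group)
    have h3 := mul_right_cancel (b := g * ε e₁ * g⁻¹) (a := 1) (c := g * ε e * g⁻¹)
      (by rw [one_mul]; exact h2)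
    exact h3.symm
  · push Not at hx
    refine mem_normalizer_of_cj_le ?_
    rintro _ ⟨v, hv, rfl⟩
    change g * v * g⁻¹ ∈ V
    obtain ⟨y, rfl⟩ := hM.surj v hv
    refine LemQ.oz h (hQ _ hv) ?_ fun q hq => ?_
    · calc (g * ε y * g⁻¹) * (g * ε y * g⁻¹) = g * (ε y * ε y) * g⁻¹ := by group
        _ = 1 := by rw [hM.sq]; group
    · have h1 := hconj q hq y
      have h2 : y ∘ (π ⟨_, hqR q hq⟩).symm = y := by
        funext z
        rw [Function.comp_apply]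
        congr 1
        rw [Equiv.symm_apply_eq]
        exact (hx z _).symm
      rw [h2] at h1
      exact LemQ.comm_of_conj h1

end Cfsg.Agent.Omega.NSix.CaseJ.LemN

end
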