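import Cfsg.Agent.Mrg.Omega.NSix.CaseJ.Exact
import Cfsg.Agent.Mrg.Omega.LemmaK.OfInK
import Cfsg.Agent.Mrg.Omega.NSix.MatchApp
import Cfsg.Agent.Mrg.Omega.NSix.TkPair

section


/-!
# OMEGA N6, case `J(S) ≰ O₂(P)`: the blocks over `B = bau S`

* `card_idx` : there are `2 ^ (m - 1)` pairs; `card_zj` : `|Z_J| ≥ 2 ^ 2 ^ (m - 1)`;
* `HH S L = C_{Z_J}(L)`, `card_HH` : it is a hyperplane; `exists_two`, `exists_three` : two (three) of them intersect
  nontrivially for `m ≥ 3`;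
* `comm_conj` (LEMMA K) : modules of two conjugates of blocks commute if the blocks centralise a common involution;
* `V_le_iSup` : `V = ⟨N i⟩`.
-/

set_option autoImplicit false
set_option linter.unusedSectionVars false

namespace Cfsg.Agent.Omega.NSix.CaseJ.Blk

open Subgroup Cfsg Cfsg.Agent.PLocal.ThompsonJ Cfsg.Agent.ZN Cfsg.Agent.ZN.ChoiceBase
open Cfsg.Agent.ZN.ChoiceSit Cfsg.Agent.PLocal.ElemAbSup
open Cfsg.Agent.Omega.MinPar
open Cfsg.Agent.Omega.S5.Def Cfsg.Agent.Omega.S5.Syl Cfsg.Agent.Omega.S5.Pair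
open Cfsg.Agent.Omega.NSix.Base Cfsg.Agent.Omega.NSix.Basic
open Cfsg.Agent.Omega.SQ1.Bau (mem_AA_of_comm elem_comm elem_sq mem_sup_comm card_sup_comm)
open Cfsg.Agent.Omega.SQ1 (BauS.In)
open Cfsg.Agent.Omega.NSix.CaseJ.Base Cfsg.Agent.Omega.NSix.CaseJ.Exact
open Cfsg.Agent.Omega.NSix.CaseJ.LemQ

universe u

variable {G : Type u} [Group G] [Finite G] {S : Sylow 2 G} {P : Subgroup G} {m : ℕ}
  {ε : (Fin (2 ^ m + 1) → ZMod 2) → G} {ι : Type} {X Y : ι → Fin (2 ^ m + 1)} {N : ι → Subgroup G}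
  {t r : ι → G}

/-- A block over `B` for the triple `0, X i, Y i`. -/
abbrev Bk (S : Sylow 2 G) (P : Subgroup G) (ε : (Fin (2 ^ m + 1) → ZMod 2) → G) {ι : Type}
    (X Y : ι → Fin (2 ^ m + 1)) (r : ι → G) (i : ι) (L : Subgroup G) : Prop :=
  SQ1.BauS.Blk P (S : Subgroup G) (zl (S : Subgroup G) P) (fun i => rr ε (X i) (Y i)) r i L

/-- the hyperplane `C_{Z_J}(L)` -/
def HH (S : Sylow 2 G) (L : Subgroup G) : Subgroup G :=
  zj (S : Subgroup G) ⊓ centralizer (L : Set G)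

theorem mem_HH {L : Subgroup G} {z : G} :
    z ∈ HH S L ↔ z ∈ zj (S : Subgroup G) ∧ ∀ x ∈ L, x * z = z * x := by
  rw [HH, mem_inf, mem_centralizer_iff]
  rfl

/-! ### Counting -/

theorem card_idx (hm : 1 ≤ m) (hd : Dat S P ε X Y N t r) : Nat.card ι = 2 ^ (m - 1) := by
  classical
  let f : ι × Bool → {x : Fin (2 ^ m + 1) // x ≠ 0} := fun p =>
    if p.2 then ⟨X p.1, hd.X0 p.1⟩ else ⟨Y p.1, hd.Y0 p.1⟩
  have hf : Function.Bijective f := by
    constructor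
    · rintro ⟨i, a⟩ ⟨j, b⟩ hab
      have hab' := congrArg Subtype.val hab
      by_cases hij : i = j
      · subst hij
        cases a <;> cases b <;> simp only [f] at hab' ⊢
        · exact absurd hab'.symm (hd.ne i)
        · exact absurd hab' (hd.ne i)
      · exfalso
        obtain ⟨h1, h2, h3, h4⟩ := hd.disj i j hij
        cases a <;> cases b <;> simp only [f] at hab'
        · exact h4 hab'
        · exact h3 hab'
        · exact h2 hab'
        · exact h1 hab'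
    · rintro ⟨x, hx⟩
      obtain ⟨i, h1 | h1⟩ := hd.cov x hx
      · exact ⟨(i, true), Subtype.ext h1⟩
      · exact ⟨(i, false), Subtype.ext h1⟩
  have h1 := Nat.card_congr (Equiv.ofBijective f hf)
  rw [Nat.card_prod] at h1
  have h2 : Nat.card Bool = 2 := by simp
  have h3 : Nat.card {x : Fin (2 ^ m + 1) // x ≠ 0} = 2 ^ m := by
    rw [Nat.card_eq_fintype_card, Fintype.card_subtype_compl]
    simp
  rw [h2, h3] at h1
  have h4 : 2 ^ m = 2 ^ (m - 1) * 2 := by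
    rw [← pow_succ]; congr 1; omega
  omega

/-- the vector which is constant on the pairs -/
noncomputable def fc (X Y : ι → Fin (2 ^ m + 1)) (c : ι → ZMod 2) : Fin (2 ^ m + 1) → ZMod 2 := by
  classical
  exact fun x => if h : ∃ i, X i = x ∨ Y i = x then c h.choose else 0

theorem fc_eq (hd : Dat S P ε X Y N t r) (c : ι → ZMod 2) {i : ι} {x : Fin (2 ^ m + 1)}
    (hx : X i = x ∨ Y i = x) : fc X Y c x = c i := by
  classical
  have hex : ∃ i, X i = x ∨ Y i = x := ⟨i, hx⟩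
  have h1 : fc X Y c x = c hex.choose := dif_pos hex
  rw [h1]
  congr 1
  by_contra hne
  obtain ⟨h2, h3, h4, h5⟩ := hd.disj _ _ hne
  rcases hex.choose_spec with h6 | h6 <;> rcases hx with h7 | h7
  · exact h2 (h6.trans h7.symm)
  · exact h3 (h6.trans h7.symm)
  · exact h4 (h6.trans h7.symm)
  · exact h5 (h6.trans h7.symm)

theorem fc_zero (hd : Dat S P ε X Y N t r) (c : ι → ZMod 2) : fc X Y c 0 = 0 := by
  classical
  refine dif_neg ?_
  rintro ⟨i, h1 | h1⟩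
  · exact hd.X0 i h1
  · exact hd.Y0 i h1

theorem eps_fc_mem (h : Hyp S P ε) (hd : Dat S P ε X Y N t r) (c : ι → ZMod 2) :
    ε (fc X Y c) ∈ zj (S : Subgroup G) := by
  rw [mem_zj_iff h]
  refine ⟨h.ev.mem _, hd.bas.cent_jj (h.ev.mem _) fun i => ?_⟩
  rw [hd.tA i (fc X Y c)]
  congr 1
  funext x
  rw [Function.comp_apply, Equiv.symm_swap]
  by_cases h1 : x = X i
  · rw [h1, Equiv.swap_apply_left, fc_eq hd c (Or.inr rfl), fc_eq hd c (Or.inl rfl)]
  by_cases h2 : x = Y i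
  · rw [h2, Equiv.swap_apply_right, fc_eq hd c (Or.inr rfl), fc_eq hd c (Or.inl rfl)]
  · rw [Equiv.swap_apply_of_ne_of_ne h1 h2]

theorem card_zj (h : Hyp S P ε) (hd : Dat S P ε X Y N t r) :
    2 ^ 2 ^ (m - 1) ≤ Nat.card (zj (S : Subgroup G)) := by
  classical
  have hm : 1 ≤ m := by have := h.hm; omega
  have h1 := card_idx hm hd
  have hfin : Finite ι := Nat.finite_of_card_ne_zero (by rw [h1]; positivity)
  have h2 : Nat.card (ι → ZMod 2) ≤ Nat.card (zj (S : Subgroup G)) := by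
    refine Nat.card_le_card_of_injective (fun c => (⟨ε (fc X Y c), eps_fc_mem h hd c⟩ :
      zj (S : Subgroup G))) ?_
    intro c c' hcc
    have h3 : ε (fc X Y c) = ε (fc X Y c') := congrArg Subtype.val hcc
    have h4 : ε (fc X Y c + fc X Y c') = 1 := by
      rw [h.ev.add, h3, h.ev.sq_mem (h.ev.mem _)]
    rcases (h.ev.ker _).1 h4 with h5 | h5
    · funext i
      have h6 := congrFun (eq_of_add_eq_zero h5) (X i)
      rwa [fc_eq hd c (Or.inl rfl), fc_eq hd c' (Or.inl rfl)] at h6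
    · exfalso
      have h6 := congrFun h5 0
      rw [Pi.add_apply, fc_zero hd, fc_zero hd, add_zero, Pi.one_apply] at h6
      exact zero_ne_one h6
  rw [Nat.card_fun, h1] at h2
  simpa using h2

theorem card_HH (h : Hyp S P ε) (hd : Dat S P ε X Y N t r) {i : ι} {L : Subgroup G}
    (k : Bk S P ε X Y r i L) : Nat.card (zj (S : Subgroup G)) ≤ 2 * Nat.card (HH S L) := by
  refine card_le_two (c := rr ε (X i) (Y i)) fun y hy hyC => ?_
  rcases LemmaK.OfIn.cent_or k hd.bas hy with h1 | h1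
  · exact absurd (mem_HH.2 ⟨hy, h1⟩) hyC
  · rw [rr_inv h.ev]
    exact mem_HH.2 ⟨mul_mem (hd.bas.d_mem_Z i) hy, h1⟩

theorem card_inf {Z A B : Subgroup G} (hZ : ∀ x ∈ Z, ∀ y ∈ Z, x * y = y * x) (hA : A ≤ Z)
    (hB : B ≤ Z) {a b : ℕ} (ha : Nat.card Z ≤ a * Nat.card A) (hb : Nat.card Z ≤ b * Nat.card B) :
    Nat.card Z ≤ a * b * Nat.card ↥(A ⊓ B) := by
  have h1 := card_sup_comm (A := A) (B := B) fun x hx y hy => hZ x (hA hx) y (hB hy)
  have h2 : Nat.card ↥(A ⊔ B) ≤ Nat.card Z := Subgroup.card_le_of_le (sup_le hA hB)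
  have h3 : 0 < Nat.card Z := Nat.card_pos
  have h4 : Nat.card Z * Nat.card Z ≤ a * Nat.card A * (b * Nat.card B) := Nat.mul_le_mul ha hb
  have h5 : a * Nat.card A * (b * Nat.card B) = a * b * (Nat.card A * Nat.card B) := by ring
  have h6 : Nat.card A * Nat.card B ≤ Nat.card Z * Nat.card ↥(A ⊓ B) := by
    rw [← h1]; exact Nat.mul_le_mul_right _ h2
  have h7 : Nat.card Z * Nat.card Z ≤ Nat.card Z * (a * b * Nat.card ↥(A ⊓ B)) := by
    calc Nat.card Z * Nat.card Z ≤ a * b * (Nat.card A * Nat.card B) := by rw [← h5]; exact h4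
      _ ≤ a * b * (Nat.card Z * Nat.card ↥(A ⊓ B)) := Nat.mul_le_mul_left _ h6
      _ = _ := by ring
  exact Nat.le_of_mul_le_mul_left h7 h3

theorem exists_ne_of_card {A : Subgroup G} {a : ℕ} (h1 : a < a * Nat.card A) : ∃ y ∈ A, y ≠ 1 := by
  by_contra hcon
  push Not at hcon
  have h2 : A = ⊥ := by
    rw [eq_bot_iff]
    intro y hy
    exact hcon y hy
  rw [h2, Subgroup.card_bot] at h1
  omega

theorem zj_comm {x y : G} (hx : x ∈ zj (S : Subgroup G)) (hy : y ∈ zj (S : Subgroup G)) :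
    x * y = y * x :=
  ((ChoiceBase.mem_zj.1 hx).2.2 y (ChoiceBase.mem_zj.1 hy).1).symm

theorem sixteen (h : Hyp S P ε) (hd : Dat S P ε X Y N t r) (h3 : 3 ≤ m) :
    16 ≤ Nat.card (zj (S : Subgroup G)) := by
  refine le_trans ?_ (card_zj h hd)
  have h1 : 2 ^ 2 ≤ 2 ^ (m - 1) := Nat.pow_le_pow_right (by norm_num) (by omega)
  calc 16 = 2 ^ 2 ^ 2 := by norm_num
    _ ≤ 2 ^ 2 ^ (m - 1) := Nat.pow_le_pow_right (by norm_num) h1

/-- A conjugate of a hyperplane. -/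
theorem card_cj_HH {L : Subgroup G} (hL : Nat.card (zj (S : Subgroup G)) ≤ 2 * Nat.card (HH S L))
    (g : G) : Nat.card (zj (S : Subgroup G)) ≤ 2 * Nat.card (cj g (HH S L)) := by
  rwa [card_cj]

/-- Two hyperplanes intersect. -/
theorem exists_two (h : Hyp S P ε) (hd : Dat S P ε X Y N t r) (h3 : 3 ≤ m) {A B : Subgroup G}
    (hA : A ≤ zj (S : Subgroup G)) (hB : B ≤ zj (S : Subgroup G))
    (ha : Nat.card (zj (S : Subgroup G)) ≤ 2 * Nat.card A)
    (hb : Nat.card (zj (S : Subgroup G)) ≤ 2 * Nat.card B) : ∃ y ∈ A ⊓ B, y ≠ 1 := by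
  have h1 := card_inf (fun x hx y hy => zj_comm hx hy) hA hB ha hb
  have h2 := sixteen h hd h3
  exact exists_ne_of_card (a := 2 * 2) (by omega)

/-- Three hyperplanes intersect. -/
theorem exists_three (h : Hyp S P ε) (hd : Dat S P ε X Y N t r) (h3 : 3 ≤ m) {A B C : Subgroup G}
    (hA : A ≤ zj (S : Subgroup G)) (hB : B ≤ zj (S : Subgroup G)) (hC : C ≤ zj (S : Subgroup G))
    (ha : Nat.card (zj (S : Subgroup G)) ≤ 2 * Nat.card A)
    (hb : Nat.card (zj (S : Subgroup G)) ≤ 2 * Nat.card B)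
    (hc : Nat.card (zj (S : Subgroup G)) ≤ 2 * Nat.card C) : ∃ y ∈ (A ⊓ B) ⊓ C, y ≠ 1 := by
  have h1 := card_inf (fun x hx y hy => zj_comm hx hy) hA hB ha hb
  have h1' := card_inf (fun x hx y hy => zj_comm hx hy) (inf_le_left.trans hA) hC h1 hc
  have h2 := sixteen h hd h3
  exact exists_ne_of_card (a := 2 * 2 * 2) (by omega)

/-! ### LEMMA K -/

theorem cj_bau (S : Sylow 2 G) (x : G) :
    bau ((x • S : Sylow 2 G) : Subgroup G) = cj x (bau (S : Subgroup G)) := by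
  rw [Sylow.coe_subgroup_smul]
  exact bau_cj x (S : Subgroup G)

/-- **LEMMA K** for conjugates of the blocks. -/
theorem comm_conj (h : Hyp S P ε) (hd : Dat S P ε X Y N t r) {i j : ι} {L L' : Subgroup G}
    (k : Bk S P ε X Y r i L) (k' : Bk S P ε X Y r j L') {x y w : G} (hw1 : w ≠ 1) (hw2 : w * w = 1)
    (hx : ∀ l ∈ L, (x * l * x⁻¹) * w = w * (x * l * x⁻¹))
    (hy : ∀ l ∈ L', (y * l * y⁻¹) * w = w * (y * l * y⁻¹)) {a b : G} (ha : a ∈ N i) (hb : b ∈ N j) :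
    (x * a * x⁻¹) * (y * b * y⁻¹) = (y * b * y⁻¹) * (x * a * x⁻¹) := by
  have b1 := (LemmaK.OfIn.blk k hd.bas).map x
  have b2 := (LemmaK.OfIn.blk k' hd.bas).map y
  rw [← cj_bau] at b1 b2
  refine LemmaK.Main.commute_of_local h.hG _ _ b1 b2 (U := zpowers w) ?_ ?_ ?_ ?_ _
    ⟨a, ha, rfl⟩ _ ⟨b, hb, rfl⟩
  · exact isPGroup_of_isElementaryAbelian (zp_elem hw2)
  · rwa [Ne, zpowers_eq_bot]
  · rintro _ ⟨l, hl, rfl⟩
    refine mem_normalizer_of_cj_le ?_
    rintro _ ⟨v, hv, rfl⟩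
    have h1 := hx l hl
    change (x * l * x⁻¹) * v * (x * l * x⁻¹)⁻¹ ∈ _
    rcases mem_zp hw2 hv with rfl | rfl
    · have e : (x * l * x⁻¹) * 1 * (x * l * x⁻¹)⁻¹ = 1 := by group
      rw [e]; exact one_mem _
    · rw [h1, mul_inv_cancel_right]; exact mem_zpowers _
  · rintro _ ⟨l, hl, rfl⟩
    refine mem_normalizer_of_cj_le ?_
    rintro _ ⟨v, hv, rfl⟩
    have h1 := hy l hl
    change (y * l * y⁻¹) * v * (y * l * y⁻¹)⁻¹ ∈ _
    rcases mem_zp hw2 hv with rfl | rfl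
    · have e : (y * l * y⁻¹) * 1 * (y * l * y⁻¹)⁻¹ = 1 := by group
      rw [e]; exact one_mem _
    · rw [h1, mul_inv_cancel_right]; exact mem_zpowers _

/-! ### `V = ⟨N i⟩` -/

theorem V_le_iSup (h : Hyp S P ε) (hd : Dat S P ε X Y N t r) : zl (S : Subgroup G) P ≤ ⨆ i, N i := by
  refine V_le_of_rr h.ev (by have := h.hm; omega) fun x => ?_
  by_cases hx : x = 0
  · have h1 : rr ε (0 : Fin (2 ^ m + 1)) 0 = 1 := h.ev.sq_mem (h.ev.mem _)
    rw [hx, h1]
    exact one_mem _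
  · obtain ⟨i, h1 | h1⟩ := hd.cov x hx
    · refine mem_iSup_of_mem i ((hd.memN i _).2 (Or.inr (Or.inl ?_)))
      rw [h1, rr_symm h.ev]
    · refine mem_iSup_of_mem i ((hd.memN i _).2 (Or.inr (Or.inr (Or.inl ?_))))
      rw [h1, rr_symm h.ev]

/-- Two sets of conjugates commute if the generators do. -/
theorem comm_all (h : Hyp S P ε) (hd : Dat S P ε X Y N t r) {x y : G}
    (hc : ∀ i j, ∀ a ∈ N i, ∀ b ∈ N j, (x * a * x⁻¹) * (y * b * y⁻¹) = (y * b * y⁻¹) * (x * a * x⁻¹))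
    {a b : G} (ha : a ∈ zl (S : Subgroup G) P) (hb : b ∈ zl (S : Subgroup G) P) :
    (x * a * x⁻¹) * (y * b * y⁻¹) = (y * b * y⁻¹) * (x * a * x⁻¹) := by
  have key : ∀ (x y : G) (U : Subgroup G), (∀ i, ∀ a ∈ N i, ∀ b ∈ U,
      (x * a * x⁻¹) * (y * b * y⁻¹) = (y * b * y⁻¹) * (x * a * x⁻¹)) →
      ∀ a ∈ zl (S : Subgroup G) P, ∀ b ∈ U,
        (x * a * x⁻¹) * (y * b * y⁻¹) = (y * b * y⁻¹) * (x * a * x⁻¹) := by
    intro x y U hU a ha b hb
    have h1 : (⨆ i, N i) ≤ cj x⁻¹ (centralizer ({y * b * y⁻¹} : Set G)) := by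
      refine iSup_le fun i a ha => ?_
      rw [mem_cj, inv_inv, mem_centralizer_singleton_iff]
      exact hU i a ha b hb
    have h2 := h1 (V_le_iSup h hd ha)
    rw [mem_cj, inv_inv, mem_centralizer_singleton_iff] at h2
    exact h2
  refine key x y _ (fun i a ha b hb => ?_) a ha b hb
  exact (key y x (N i) (fun j b hb a ha => (hc i j a ha b hb).symm) b hb a ha).symm

/-! ### Sizes of the pieces -/

theorem QB (h : Hyp S P ε) : o2 P ≤ bau (S : Subgroup G) := by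
  intro q hq
  have h1 : q ∈ (S : Subgroup G) := h.QS hq
  have h2 : ∀ z ∈ zj (S : Subgroup G), z * q = q * z := fun z hz =>
    (h.VcQ hq (LemQ.zj_le h hz)).symm
  exact ChoiceBase.mem_bau.2 ⟨h1, h2⟩

theorem VB (h : Hyp S P ε) : zl (S : Subgroup G) P ≤ bau (S : Subgroup G) := h.VQ.trans (QB h)

theorem VJ (h : Hyp S P ε) : zl (S : Subgroup G) P ≤ jj (S : Subgroup G) := by
  obtain ⟨ι, X, Y, N, t, r, -, hd⟩ := h.exists_dat
  obtain ⟨A, hA, -, hVA⟩ := hd.bas.exists_AQ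
  exact hVA.trans (le_jj hA)

/-- `B` acts on `N i` like `⟨t i⟩`. -/
theorem bau_N (hd : Dat S P ε X Y N t r) {b : G} (hb : b ∈ bau (S : Subgroup G))
    {i : ι} {v : G} (hv : v ∈ N i) : b * v * b⁻¹ = v ∨ b * v * b⁻¹ = rr ε (X i) (Y i) * v := by
  rcases (hd.bas.EE_good (hd.bas.bau_EE hb)).actN i with h1 | h1
  · exact Or.inl (h1 v hv)
  · rw [h1 v hv]
    exact hd.bas.t_comm i v (hd.bas.NV i hv)

theorem d_mem_HH (hd : Dat S P ε X Y N t r) {i j : ι} {L : Subgroup G}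
    (k : Bk S P ε X Y r i L) (hij : i ≠ j) : rr ε (X j) (Y j) ∈ HH S L :=
  mem_HH.2 ⟨hd.bas.d_mem_Z j, LemmaK.OfIn.cent_d k hd.bas hij⟩

end Cfsg.Agent.Omega.NSix.CaseJ.Blk

end

section


/-!
# OMEGA N6, case `J(S) ≰ O₂(P)`: `N_G(B) ≤ N_G(V)` and `N_G(J(S)) ≤ N_G(V)` for `m ≥ 3`
-/

set_option autoImplicit false
set_option linter.unusedSectionVars false

namespace Cfsg.Agent.Omega.NSix.CaseJ.Norm

open Subgroup Cfsg Cfsg.Agent.PLocal.ThompsonJ Cfsg.Agent.ZN Cfsg.Agent.ZN.ChoiceBase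
open Cfsg.Agent.ZN.ChoiceSit Cfsg.Agent.PLocal.ElemAbSup
open Cfsg.Agent.Omega.MinPar
open Cfsg.Agent.Omega.S5.Def Cfsg.Agent.Omega.S5.Syl Cfsg.Agent.Omega.S5.Pair
open Cfsg.Agent.Omega.NSix.Base Cfsg.Agent.Omega.NSix.Basic
open Cfsg.Agent.Omega.SQ1.Bau (mem_AA_of_comm elem_comm elem_sq mem_sup_comm card_sup_comm)
open Cfsg.Agent.Omega.SQ1 (BauS.In)
open Cfsg.Agent.Omega.NSix.CaseJ.Base Cfsg.Agent.Omega.NSix.CaseJ.Exact
open Cfsg.Agent.Omega.NSix.CaseJ.LemQ Cfsg.Agent.Omega.NSix.CaseJ.Blk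

universe u

variable {G : Type u} [Group G] [Finite G] {S : Sylow 2 G} {P : Subgroup G} {m : ℕ}
  {ε : (Fin (2 ^ m + 1) → ZMod 2) → G} {ι : Type} {X Y : ι → Fin (2 ^ m + 1)} {N : ι → Subgroup G}
  {t r : ι → G}

/-- An element of `G` which moves all `N i` into `V` normalises `V`. -/
theorem mem_of_N (h : Hyp S P ε) (hd : Dat S P ε X Y N t r) {g : G}
    (hg : ∀ i, ∀ a ∈ N i, g * a * g⁻¹ ∈ zl (S : Subgroup G) P) :
    g ∈ normalizer (zl (S : Subgroup G) P : Set G) := by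
  refine mem_normalizer_of_cj_le ?_
  have h1 : (⨆ i, N i) ≤ cj g⁻¹ (zl (S : Subgroup G) P) := by
    refine iSup_le fun i a ha => ?_
    rw [mem_cj, inv_inv]
    exact hg i a ha
  rw [cj_le_iff]
  exact (V_le_iSup h hd).trans h1

/-- It suffices to know it for one element of the pair. -/
theorem mem_of_X (h : Hyp S P ε) (hd : Dat S P ε X Y N t r) {g : G}
    (hX : ∀ i, g * rr ε 0 (X i) * g⁻¹ ∈ zl (S : Subgroup G) P)
    (hD : ∀ i, g * rr ε (X i) (Y i) * g⁻¹ ∈ zl (S : Subgroup G) P) :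
    g ∈ normalizer (zl (S : Subgroup G) P : Set G) := by
  refine mem_of_N h hd fun i a ha => ?_
  rcases (hd.memN i a).1 ha with rfl | rfl | rfl | rfl
  · have e : g * 1 * g⁻¹ = 1 := by group
    rw [e]; exact one_mem _
  · exact hX i
  · have h1 := mul_mem (hX i) (hD i)
    have e : g * rr ε 0 (X i) * g⁻¹ * (g * rr ε (X i) (Y i) * g⁻¹) =
        g * (rr ε 0 (X i) * rr ε (X i) (Y i)) * g⁻¹ := by group
    rwa [e, rr_add h.ev] at h1
  · exact hD i

theorem X_mem (hd : Dat S P ε X Y N t r) (i : ι) : rr ε 0 (X i) ∈ N i :=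
  (hd.memN i _).2 (Or.inr (Or.inl rfl))

theorem sq_conj {g x : G} (hx : x * x = 1) : (g * x * g⁻¹) * (g * x * g⁻¹) = 1 := by
  calc (g * x * g⁻¹) * (g * x * g⁻¹) = g * (x * x) * g⁻¹ := by group
    _ = 1 := by rw [hx]; group

/-- **(4)** `N_G(B) ≤ N_G(V)`. -/
theorem bau_le (h : Hyp S P ε) (h3 : 3 ≤ m) :
    normalizer ((bau (S : Subgroup G) : Subgroup G) : Set G) ≤
      normalizer (zl (S : Subgroup G) P : Set G) := by
  obtain ⟨ι, X, Y, N, t, r, -, hd⟩ := h.exists_dat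
  choose L hL using fun i => hd.bas.exists_blk i
  intro g hg
  have hgZ : cj g (zj (S : Subgroup G)) = zj (S : Subgroup G) := by
    have h1 := normalizer_le_of_cj (F := zj) zj_cj (bau (S : Subgroup G)) hg
    rw [ChoiceBase.zj_bau] at h1
    exact cj_eq_of_mem_normalizer h1
  have hgZ' : ∀ z ∈ zj (S : Subgroup G), g * z * g⁻¹ ∈ zj (S : Subgroup G) := fun z hz => by
    rw [← hgZ]; exact ⟨z, hz, rfl⟩
  have hgB := cj_eq_of_mem_normalizer hg
  have hgB' : ∀ b ∈ bau (S : Subgroup G), g * b * g⁻¹ ∈ bau (S : Subgroup G) := fun b hb => by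
    rw [← hgB]; exact ⟨b, hb, rfl⟩
  -- the modules commute
  have hcomm : ∀ a ∈ zl (S : Subgroup G) P, ∀ b ∈ zl (S : Subgroup G) P,
      (1 * a * 1⁻¹) * (g * b * g⁻¹) = (g * b * g⁻¹) * (1 * a * 1⁻¹) := by
    intro a ha b hb
    refine comm_all h hd (fun i j a ha b hb => ?_) ha hb
    have hB : cj g (HH S (L j)) ≤ zj (S : Subgroup G) := by
      rw [← hgZ]; exact cj_mono g inf_le_left
    obtain ⟨y, ⟨hy1, hy2⟩, hy⟩ := exists_two h hd h3 (A := HH S (L i)) (B := cj g (HH S (L j)))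
      inf_le_left hB (card_HH h hd (hL i)) (card_cj_HH (card_HH h hd (hL j)) g)
    have hy1' := mem_HH.1 hy1
    replace hy2 : y ∈ cj g (HH S (L j)) := hy2
    rw [mem_cj, mem_HH] at hy2
    have hyy : y * y = 1 := h.ev.sq_mem (LemQ.zj_le h hy1'.1)
    refine comm_conj h hd (hL i) (hL j) hy hyy (fun l hl => ?_) (fun l hl => ?_) ha hb
    · have := hy1'.2 l hl
      calc 1 * l * 1⁻¹ * y = l * y := by group
        _ = y * l := this
        _ = y * (1 * l * 1⁻¹) := by group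
    · have := hy2.2 l hl
      calc g * l * g⁻¹ * y = g * (l * (g⁻¹ * y * g)) * g⁻¹ := by group
        _ = g * ((g⁻¹ * y * g) * l) * g⁻¹ := by rw [this]
        _ = y * (g * l * g⁻¹) := by group
  -- `V^g ≤ Q`
  have hVgQ : ∀ a ∈ zl (S : Subgroup G) P, g * a * g⁻¹ ∈ o2 P := by
    intro a ha
    refine h.cS (ChoiceBase.bau_le _ (hgB' a (VB h ha))) fun v hv => ?_
    have h1 := hcomm v hv a ha
    have e : (1 : G) * v * 1⁻¹ = v := by group
    rw [e] at h1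
    exact h1.symm
  have hDV : ∀ i, g * rr ε (X i) (Y i) * g⁻¹ ∈ zl (S : Subgroup G) P := fun i =>
    LemQ.zj_le h (hgZ' _ (hd.bas.d_mem_Z i))
  refine mem_of_X h hd (fun i => ?_) hDV
  refine LemQ.mem h (v := g * rr ε (X i) (Y i) * g⁻¹) (hVgQ _ (rr_mem h.ev _ _))
    (sq_conj (rr_sq h.ev _ _)) (hDV i) ?_ fun q hq => ?_
  · intro e
    apply rr_ne_one h.ev h.three (hd.ne i)
    calc rr ε (X i) (Y i) = g⁻¹ * (g * rr ε (X i) (Y i) * g⁻¹) * g := by group
      _ = 1 := by rw [e]; group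
  · have hqB : g⁻¹ * q * g ∈ bau (S : Subgroup G) := by
      have h1 : q ∈ cj g (bau (S : Subgroup G)) := by rw [hgB]; exact QB h hq
      rwa [mem_cj] at h1
    have e : q * (g * rr ε 0 (X i) * g⁻¹) * q⁻¹ =
        g * ((g⁻¹ * q * g) * rr ε 0 (X i) * (g⁻¹ * q * g)⁻¹) * g⁻¹ := by group
    rcases bau_N hd hqB (X_mem hd i) with h1 | h1
    · left; rw [e, h1]
    · right; rw [e, h1]; group

/-! ### `N_G(J(S))` -/

theorem exists_notMem (F : Finset ι) (hF : F.card < Nat.card ι) : ∃ k, k ∉ F := by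
  classical
  by_contra hcon
  push Not at hcon
  have hfin : Finite ι := Nat.finite_of_card_ne_zero (by omega)
  have := Fintype.ofFinite ι
  have h1 : (Finset.univ : Finset ι) ⊆ F := fun x _ => hcon x
  have h2 := Finset.card_le_card h1
  rw [Finset.card_univ, ← Nat.card_eq_fintype_card] at h2
  omega

theorem exists_idx (hm : 3 ≤ m) (hd : Dat S P ε X Y N t r) (i : ι) :
    ∃ k q, k ≠ i ∧ q ≠ i ∧ q ≠ k := by
  classical
  have h1 := card_idx (by omega) hd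
  have h2 : 2 ^ 2 ≤ 2 ^ (m - 1) := Nat.pow_le_pow_right (by norm_num) (by omega)
  obtain ⟨k, hk⟩ := exists_notMem ({i} : Finset ι) (by rw [Finset.card_singleton]; omega)
  have h4 : ({i, k} : Finset ι).card ≤ 2 := Finset.card_le_two
  obtain ⟨q, hq⟩ := exists_notMem ({i, k} : Finset ι) (by omega)
  simp only [Finset.mem_insert, Finset.mem_singleton, not_or] at hk hq
  exact ⟨k, q, hk, hq.1, hq.2⟩

theorem jj_zj {g : G} (hg : g ∈ normalizer ((jj (S : Subgroup G) : Subgroup G) : Set G)) :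
    g ∈ normalizer ((zj (S : Subgroup G) : Subgroup G) : Set G) := by
  refine mem_normalizer_of_cj_le ?_
  rintro _ ⟨z, hz, rfl⟩
  have h1 := ChoiceBase.mem_zj.1 hz
  change g * z * g⁻¹ ∈ _
  refine ChoiceBase.mem_zj.2 ⟨(mem_normalizer_iff.1 hg z).1 h1.1, ?_, fun y hy => ?_⟩
  · have := h1.2.1
    calc (g * z * g⁻¹) ^ 2 = g * z ^ 2 * g⁻¹ := by rw [pow_two, pow_two]; group
      _ = 1 := by rw [this]; group
  · have h2 : g⁻¹ * y * g ∈ jj (S : Subgroup G) := by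
      have := (mem_normalizer_iff.1 (inv_mem hg) y).1 hy
      rwa [inv_inv] at this
    have h3 := h1.2.2 _ h2
    calc y * (g * z * g⁻¹) = g * ((g⁻¹ * y * g) * z) * g⁻¹ := by group
      _ = g * (z * (g⁻¹ * y * g)) * g⁻¹ := by rw [h3]
      _ = g * z * g⁻¹ * y := by group

/-- `C_{N(J)}(Z_J) ≤ N_G(V)`. -/
theorem jj_cent (h : Hyp S P ε) (h3 : 3 ≤ m) {c : G}
    (hc : c ∈ normalizer ((jj (S : Subgroup G) : Subgroup G) : Set G))
    (hcZ : ∀ z ∈ zj (S : Subgroup G), c * z = z * c) :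
    c ∈ normalizer (zl (S : Subgroup G) P : Set G) := by
  obtain ⟨ι, X, Y, N, t, r, -, hd⟩ := h.exists_dat
  choose L hL using fun i => hd.bas.exists_blk i
  have hcJ : ∀ x ∈ jj (S : Subgroup G), c * x * c⁻¹ ∈ jj (S : Subgroup G) := fun x hx =>
    (mem_normalizer_iff.1 hc x).1 hx
  have hcJ' : ∀ x ∈ jj (S : Subgroup G), c⁻¹ * x * c ∈ jj (S : Subgroup G) := fun x hx => by
    have := (mem_normalizer_iff.1 (inv_mem hc) x).1 hx
    rwa [inv_inv] at this
  have hcz' : ∀ z ∈ zj (S : Subgroup G), c * z * c⁻¹ = z := fun z hz => by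
    rw [hcZ z hz]; group
  -- the centraliser of `L^c`
  have hcent : ∀ (i : ι), ∀ y ∈ HH S (L i), ∀ l ∈ L i, (c * l * c⁻¹) * y = y * (c * l * c⁻¹) := by
    intro i y hy l hl
    have h1 := mem_HH.1 hy
    have h2 := hcZ y h1.1
    have h4 : c⁻¹ * y = y * c⁻¹ := by
      calc c⁻¹ * y = c⁻¹ * (y * c) * c⁻¹ := by group
        _ = c⁻¹ * (c * y) * c⁻¹ := by rw [h2]
        _ = y * c⁻¹ := by group
    calc (c * l * c⁻¹) * y = c * l * (c⁻¹ * y) := by group
      _ = c * (l * y) * c⁻¹ := by rw [h4]; group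
      _ = (c * y) * l * c⁻¹ := by rw [h1.2 l hl]; group
      _ = y * (c * l * c⁻¹) := by rw [h2]; group
  have hcomm : ∀ a ∈ zl (S : Subgroup G) P, ∀ b ∈ zl (S : Subgroup G) P,
      (1 * a * 1⁻¹) * (c * b * c⁻¹) = (c * b * c⁻¹) * (1 * a * 1⁻¹) := by
    intro a ha b hb
    refine comm_all h hd (fun i j a ha b hb => ?_) ha hb
    obtain ⟨y, ⟨hy1, hy2⟩, hy⟩ := exists_two h hd h3 (A := HH S (L i)) (B := HH S (L j))
      inf_le_left inf_le_left (card_HH h hd (hL i)) (card_HH h hd (hL j))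
    have hy1' := mem_HH.1 hy1
    have hyy : y * y = 1 := h.ev.sq_mem (LemQ.zj_le h hy1'.1)
    refine comm_conj h hd (hL i) (hL j) hy hyy (fun l hl => ?_) (hcent j y hy2) ha hb
    have := hy1'.2 l hl
    calc 1 * l * 1⁻¹ * y = l * y := by group
      _ = y * l := this
      _ = y * (1 * l * 1⁻¹) := by group
  have hVcQ : ∀ a ∈ zl (S : Subgroup G) P, c * a * c⁻¹ ∈ o2 P := by
    intro a ha
    refine h.cS (ChoiceBase.jj_le _ (hcJ a (VJ h ha))) fun v hv => ?_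
    have h1 := hcomm v hv a ha
    have e : (1 : G) * v * 1⁻¹ = v := by group
    rw [e] at h1
    exact h1.symm
  have hdZ : ∀ i, rr ε (X i) (Y i) ∈ zj (S : Subgroup G) := fun i => hd.bas.d_mem_Z i
  refine mem_of_X h hd (fun i => ?_) fun i => by
    rw [hcz' _ (hdZ i)]; exact rr_mem h.ev _ _
  obtain ⟨k, q, hki, hqi, hqk⟩ := exists_idx h3 hd i
  obtain ⟨u, hu⟩ : ∃ u, u = c * rr ε 0 (X i) * c⁻¹ := ⟨_, rfl⟩
  obtain ⟨v, hv⟩ : ∃ v, v = rr ε (X i) (Y i) := ⟨_, rfl⟩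
  have hvV : v ∈ zl (S : Subgroup G) P := hv ▸ rr_mem h.ev _ _
  have hvZ : v ∈ zj (S : Subgroup G) := hv ▸ hdZ i
  have hv1 : v ≠ 1 := hv ▸ rr_ne_one h.ev h.three (hd.ne i)
  have hvv : v * v = 1 := h.ev.sq_mem hvV
  have huQ : u ∈ o2 P := hu ▸ hVcQ _ (rr_mem h.ev _ _)
  have hu2 : u * u = 1 := hu ▸ sq_conj (rr_sq h.ev _ _)
  rw [← hu]
  -- `[u, J] = ⟨v⟩`
  have huJ : ∀ j ∈ jj (S : Subgroup G), j * u * j⁻¹ = u ∨ j * u * j⁻¹ = v * u := by
    intro j hj
    have e : j * (c * rr ε 0 (X i) * c⁻¹) * j⁻¹ =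
        c * ((c⁻¹ * j * c) * rr ε 0 (X i) * (c⁻¹ * j * c)⁻¹) * c⁻¹ := by group
    rcases bau_N hd (ChoiceBase.jj_le_bau _ (hcJ' j hj)) (X_mem hd i) with h1 | h1
    · left; rw [hu, e, h1]
    · right
      rw [hu, e, h1, ← hv]
      have h2 := hcz' v hvZ
      calc c * (v * rr ε 0 (X i)) * c⁻¹ = (c * v * c⁻¹) * (c * rr ε 0 (X i) * c⁻¹) := by group
        _ = _ := by rw [h2]
  have hdisj := hd.disj i k hki.symm
  obtain ⟨A, hA⟩ := exists_ex h hdisj.1
  obtain ⟨a, ha, ha'⟩ := hA.ex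
  have haP := hA.AP ha
  obtain ⟨u', hu'⟩ : ∃ u', u' = a * u * a⁻¹ := ⟨_, rfl⟩
  obtain ⟨v', hv'⟩ : ∃ v', v' = a * v * a⁻¹ := ⟨_, rfl⟩
  have hv'V : v' ∈ zl (S : Subgroup G) P := hv' ▸ h.Vn haP hvV
  have hva : a * v * a⁻¹ ≠ v := by
    rw [hv, rr_conj ha', Equiv.swap_apply_left, Equiv.swap_apply_of_ne_of_ne (hd.ne i).symm hdisj.2.2.1]
    intro e
    apply rr_ne_one h.ev h.three hdisj.1
    rw [← rr_add h.ev (X i) (Y i) (X k), rr_symm h.ev (Y i) (X k), e, rr_sq h.ev]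
  -- `u` and `u^a` commute
  have hdisjq := hd.disj i q hqi.symm
  have hdisjk := hd.disj k q hqk.symm
  have haw : a * rr ε (X q) (Y q) * a⁻¹ = rr ε (X q) (Y q) := by
    rw [rr_conj ha', Equiv.swap_apply_of_ne_of_ne hdisjq.1.symm hdisjk.1.symm,
      Equiv.swap_apply_of_ne_of_ne hdisjq.2.1.symm hdisjk.2.1.symm]
  have hcommu : u * u' = u' * u := by
    have hw := d_mem_HH hd (hL i) hqi.symm
    have h1 := comm_conj h hd (hL i) (hL i) (x := c) (y := a * c)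
      (rr_ne_one h.ev h.three (hd.ne q)) (rr_sq h.ev _ _) (hcent i _ hw) (fun l hl => ?_)
      (X_mem hd i) (X_mem hd i)
    · have e : a * c * rr ε 0 (X i) * (a * c)⁻¹ = a * (c * rr ε 0 (X i) * c⁻¹) * a⁻¹ := by group
      rw [e, ← hu, ← hu'] at h1
      exact h1
    · have h2 := hcent i _ hw l hl
      set w := rr ε (X q) (Y q) with hwdef
      have h4 : a⁻¹ * w * a = w := by
        calc a⁻¹ * w * a = a⁻¹ * (a * w * a⁻¹) * a := by rw [haw]
          _ = w := by group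
      calc a * c * l * (a * c)⁻¹ * w = a * ((c * l * c⁻¹) * (a⁻¹ * w * a)) * a⁻¹ := by group
        _ = a * (w * (c * l * c⁻¹)) * a⁻¹ := by rw [h4, h2]
        _ = (a * w * a⁻¹) * (a * c * l * (a * c)⁻¹) := by group
        _ = w * (a * c * l * (a * c)⁻¹) := by rw [haw]
  have hJQ : jj (o2 P) ≤ jj (S : Subgroup G) := hd.bas.jjQ_le
  obtain ⟨w, hw, hw'⟩ := core h hA hdisj.1 (R := jj (o2 P)) ((hA.A0_le h hdisj.1).1) huQ hu2 hvV
    (fun r hr => huJ r (hJQ hr)) ha ha' hva hu' hcommu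
  -- `[u, J(Q)] = 1`
  have hPJQ : P ≤ normalizer ((jj (o2 P) : Subgroup G) : Set G) :=
    (ZN.le_normalizer_o2 P).trans (normalizer_le_of_cj (F := jj) jj_cj (o2 P))
  have hJQu : ∀ s ∈ jj (o2 P), s * u = u * s := by
    intro s hs
    rcases huJ s (hJQ hs) with h1 | h1
    · exact comm_of_conj h1
    · exfalso
      obtain ⟨s', hs'⟩ : ∃ s', s' = a * s * a⁻¹ := ⟨_, rfl⟩
      have hs'J : s' ∈ jj (o2 P) := hs' ▸ (mem_normalizer_iff.1 (hPJQ haP) s).1 hs
      have hs'Q : s' ∈ o2 P := ChoiceBase.jj_le _ hs'J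
      have e1 : s' * u' * s'⁻¹ = v' * u' := by
        calc s' * u' * s'⁻¹ = a * (s * u * s⁻¹) * a⁻¹ := by rw [hs', hu']; group
          _ = v' * u' := by rw [h1, hu', hv']; group
      rw [hw'] at e1
      have e2 : s' * (w * u) * s'⁻¹ = w * (s' * u * s'⁻¹) := by
        calc s' * (w * u) * s'⁻¹ = (s' * w) * u * s'⁻¹ := by group
          _ = w * (s' * u * s'⁻¹) := by rw [h.VcQ hs'Q hw]; group
      rw [e2, ← mul_assoc v', h.ev.comm_mem hv'V hw, mul_assoc w v'] at e1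
      have e3 := mul_left_cancel e1
      rcases huJ s' (hJQ hs'J) with h2 | h2
      · rw [h2, right_eq_mul] at e3
        apply hv1
        calc v = a⁻¹ * v' * a := by rw [hv']; group
          _ = 1 := by rw [e3]; group
      · rw [h2] at e3
        rw [← hv'] at hva
        exact hva (mul_right_cancel e3).symm
  have huZ : u ∈ zj (o2 P) := ChoiceBase.mem_zj.2 ⟨mem_jj_of_comm huQ (by rw [pow_two, hu2]) hJQu,
    by rw [pow_two, hu2], hJQu⟩
  rcases alt h huZ with h4 | h4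
  · exact h4
  exfalso
  obtain ⟨v₀, hv₀⟩ : ∃ v₀, v₀ = rr ε 0 (X k) := ⟨_, rfl⟩
  have hv₀V : v₀ ∈ zl (S : Subgroup G) P := hv₀ ▸ rr_mem h.ev _ _
  obtain ⟨q', hq', hqu⟩ := h4 v₀ hv₀V
  have hb : t k ∈ jj (S : Subgroup G) := hd.bas.tJ k
  obtain ⟨b, hbt⟩ : ∃ b, b = t k := ⟨_, rfl⟩
  rw [← hbt] at hb
  have hbA : Acts ε b (Equiv.swap (X k) (Y k)) := hbt ▸ hd.tA k
  obtain ⟨e, he, hbu⟩ : ∃ e, (e = 1 ∨ e = v) ∧ b⁻¹ * u * b = e * u := by
    have h5 := huJ b⁻¹ (inv_mem hb)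
    rw [inv_inv] at h5
    rcases h5 with h5 | h5
    · exact ⟨1, Or.inl rfl, by rw [h5, one_mul]⟩
    · exact ⟨v, Or.inr rfl, h5⟩
  have heV : e ∈ zl (S : Subgroup G) P := by
    rcases he with rfl | rfl
    · exact one_mem _
    · exact hvV
  have heb : b * e = e * b := by
    rcases he with rfl | rfl
    · rw [one_mul, mul_one]
    · exact (ChoiceBase.mem_zj.1 hvZ).2.2 b hb
  have hee : e * e = 1 := h.ev.sq_mem heV
  have hbu' : b * u * b⁻¹ = e * u := by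
    have h5 : u = e * (b * u * b⁻¹) := by
      calc u = b * (b⁻¹ * u * b) * b⁻¹ := by group
        _ = (b * e) * u * b⁻¹ := by rw [hbu]; group
        _ = e * (b * u * b⁻¹) := by rw [heb]; group
    calc b * u * b⁻¹ = (e * e) * (b * u * b⁻¹) := by rw [hee, one_mul]
      _ = e * (e * (b * u * b⁻¹)) := by group
      _ = e * u := by rw [← h5]
  have hv₀v₀ : v₀ * v₀ = 1 := h.ev.sq_mem hv₀V
  have hqe : q' * e = e * q' := h.VcQ hq' heV
  have hqv : q' * v₀ = v₀ * q' := h.VcQ hq' hv₀V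
  have hbv : b⁻¹ * v₀ * b = rr ε 0 (Y k) := by
    have h5 := rr_conj hbA.inv 0 (X k)
    rw [inv_inv, Equiv.swap_inv, Equiv.swap_apply_of_ne_of_ne (hd.X0 k).symm (hd.Y0 k).symm,
      Equiv.swap_apply_left] at h5
    rw [hv₀]
    exact h5
  have hqu' : q'⁻¹ * u * q' = v₀ * u := by
    have h5 : u = v₀ * (q'⁻¹ * u * q') := by
      calc u = q'⁻¹ * (q' * u * q'⁻¹) * q' := by group
        _ = q'⁻¹ * v₀ * u * q' := by rw [hqu]; group
        _ = q'⁻¹ * (v₀ * q') * q'⁻¹ * u * q' := by group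
        _ = q'⁻¹ * (q' * v₀) * q'⁻¹ * u * q' := by rw [hqv]
        _ = v₀ * (q'⁻¹ * u * q') := by group
    calc q'⁻¹ * u * q' = (v₀ * v₀) * (q'⁻¹ * u * q') := by rw [hv₀v₀, one_mul]
      _ = v₀ * (v₀ * (q'⁻¹ * u * q')) := by group
      _ = v₀ * u := by rw [← h5]
  have hc' : q'⁻¹ * b⁻¹ * q' * b ∈ jj (S : Subgroup G) := by
    refine mul_mem ?_ hb
    have h5 : (S : Subgroup G) ≤ normalizer ((jj (S : Subgroup G) : Subgroup G) : Set G) :=
      Subgroup.le_normalizer.trans (normalizer_le_of_cj (F := jj) jj_cj (S : Subgroup G))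
    have h6 := (mem_normalizer_iff.1 (h5 (inv_mem (h.QS hq'))) b⁻¹).1 (inv_mem hb)
    rwa [inv_inv] at h6
  have hwV : rr ε 0 (Y k) ∈ zl (S : Subgroup G) P := rr_mem h.ev _ _
  have hmain : (q'⁻¹ * b⁻¹ * q' * b) * u * (q'⁻¹ * b⁻¹ * q' * b)⁻¹ = rr ε (X k) (Y k) * u := by
    calc (q'⁻¹ * b⁻¹ * q' * b) * u * (q'⁻¹ * b⁻¹ * q' * b)⁻¹
        = q'⁻¹ * b⁻¹ * (q' * (b * u * b⁻¹) * q'⁻¹) * b * q' := by group
      _ = q'⁻¹ * b⁻¹ * ((q' * e) * u * q'⁻¹) * b * q' := by rw [hbu']; group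
      _ = q'⁻¹ * b⁻¹ * (e * (q' * u * q'⁻¹)) * b * q' := by rw [hqe]; group
      _ = q'⁻¹ * b⁻¹ * (e * (v₀ * u)) * b * q' := by rw [hqu]
      _ = q'⁻¹ * (b⁻¹ * e * b) * (b⁻¹ * v₀ * b) * (b⁻¹ * u * b) * q' := by group
      _ = q'⁻¹ * e * rr ε 0 (Y k) * (e * u) * q' := by
        have h5 : b⁻¹ * e * b = e := by rw [mul_assoc, ← heb]; group
        rw [h5, hbv, hbu]
      _ = q'⁻¹ * (e * (rr ε 0 (Y k) * e)) * u * q' := by group
      _ = q'⁻¹ * rr ε 0 (Y k) * u * q' := by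
        rw [h.ev.comm_mem hwV heV, ← mul_assoc e e, hee, one_mul]
      _ = q'⁻¹ * (rr ε 0 (Y k) * q') * q'⁻¹ * u * q' := by group
      _ = rr ε 0 (Y k) * (q'⁻¹ * u * q') := by rw [← h.VcQ hq' hwV]; group
      _ = rr ε 0 (Y k) * v₀ * u := by rw [hqu']; group
      _ = rr ε (X k) (Y k) * u := by
        rw [hv₀, h.ev.comm_mem hwV (rr_mem h.ev _ _), rr_symm h.ev 0 (X k), rr_add h.ev]
  rcases huJ _ hc' with h5 | h5
  · rw [hmain, mul_eq_right] at h5
    exact rr_ne_one h.ev h.three (hd.ne k) h5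
  · rw [hmain, hv] at h5
    exact hki (hd.bas.d_inj (mul_right_cancel h5))

theorem syl_bau (S : Sylow 2 G) {C : Subgroup G} (hC : bau (S : Subgroup G) ≤ C)
    (hcZ : C ≤ centralizer (zj (S : Subgroup G) : Set G)) :
    ChoiceSit.Syl (bau (S : Subgroup G)) C := by
  refine ⟨hC, S.isPGroup'.to_le (ChoiceBase.bau_le _), fun R hRC hR hBR => ?_⟩
  have h1 := LemmaK.Main.bau_eq S hR hBR
  have h2 := LemmaK.Main.zj_eq S hR hBR
  rw [← h1]
  refine le_antisymm (fun x hx => ChoiceBase.mem_bau.2 ⟨hx, fun z hz => ?_⟩) (ChoiceBase.bau_le R)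
  rw [h2] at hz
  exact mem_centralizer_iff.1 (hcZ (hRC hx)) z hz

/-- **(5)** `N_G(J(S)) ≤ N_G(V)`. -/
theorem jj_le (h : Hyp S P ε) (h3 : 3 ≤ m) :
    normalizer ((jj (S : Subgroup G) : Subgroup G) : Set G) ≤
      normalizer (zl (S : Subgroup G) P : Set G) := by
  intro g hg
  set J := jj (S : Subgroup G) with hJ
  set C := normalizer (J : Set G) ⊓ centralizer (zj (S : Subgroup G) : Set G) with hCdef
  have hBN : bau (S : Subgroup G) ≤ normalizer (J : Set G) :=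
    (ChoiceBase.bau_le _).trans (Subgroup.le_normalizer.trans
      (normalizer_le_of_cj (F := jj) jj_cj (S : Subgroup G)))
  have hBC : bau (S : Subgroup G) ≤ C := le_inf hBN fun b hb =>
    mem_centralizer_iff.2 fun z hz => (ChoiceBase.mem_bau.1 hb).2 z hz
  have hs := syl_bau S hBC inf_le_right
  have hgZ := cj_eq_of_mem_normalizer (jj_zj hg)
  have hgC : cj g C = C := by
    rw [hCdef, cj_inf, cj_centralizer, hgZ, cj_normalizer, cj_eq_of_mem_normalizer hg]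
  have hs' : ChoiceSit.Syl (cj g (bau (S : Subgroup G))) C := by
    refine ⟨?_, isPGroup_cj g hs.2.1, ?_⟩
    · rw [← hgC]; exact cj_mono g hs.1
    · intro R hR hR2 hQR
      have h1 : cj g⁻¹ R = bau (S : Subgroup G) := by
        refine hs.2.2 _ ?_ (isPGroup_cj _ hR2) ?_
        · rw [cj_le_iff, inv_inv, hgC]; exact hR
        · rw [← cj_le_iff]; exact hQR
      rw [← h1, cj_cj_inv]
  obtain ⟨c, hc, hcc⟩ := ChoiceSit.syl_conj hs' hs
  rw [cj_cj] at hcc
  have h1 := bau_le h h3 (mem_normalizer_iff_cj.2 hcc)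
  have h2 := jj_cent h h3 hc.1 fun z hz => (mem_centralizer_iff.1 hc.2 z hz).symm
  have h4 := mul_mem (inv_mem h2) h1
  rwa [inv_mul_cancel_left] at h4

end Cfsg.Agent.Omega.NSix.CaseJ.Norm

end

section


/-!
# OMEGA N6, case `J(S) ≰ O₂(P)`: 2-subgroups over `B`, `J(S)`, Sylow subgroups of `C_G(r_ij)`, fusion in `V`

* `two_le_bau`, `two_le_jj` : a 2-subgroup over `bau S` or `jj S` lies in `N_G(V)`;
* `mem_of_bau`, `mem_of_jj` : `B^x ≤ N_G(V)` (or `J^x ≤ N_G(V)`) implies `x ∈ N_G(V)`;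
* `syl` **(6)**; `control` **(7)**.
-/

set_option autoImplicit false
set_option linter.unusedSectionVars false

namespace Cfsg.Agent.Omega.NSix.CaseJ.Fus

open Subgroup Cfsg Cfsg.Agent.PLocal.ThompsonJ Cfsg.Agent.ZN Cfsg.Agent.ZN.ChoiceBase
open Cfsg.Agent.ZN.ChoiceSit Cfsg.Agent.PLocal.ElemAbSup
open Cfsg.Agent.Omega.MinPar
open Cfsg.Agent.Omega.S5.Def Cfsg.Agent.Omega.S5.Syl Cfsg.Agent.Omega.S5.Pair
open Cfsg.Agent.Omega.NSix.Base Cfsg.Agent.Omega.NSix.Basic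
open Cfsg.Agent.Omega.SQ1.Bau (mem_AA_of_comm elem_comm elem_sq mem_sup_comm card_sup_comm)
open Cfsg.Agent.Omega.NSix.CaseJ.Base Cfsg.Agent.Omega.NSix.CaseJ.Exact
open Cfsg.Agent.Omega.NSix.CaseJ.LemQ Cfsg.Agent.Omega.NSix.CaseJ.Blk Cfsg.Agent.Omega.NSix.CaseJ.Norm

universe u

variable {G : Type u} [Group G] [Finite G] {S : Sylow 2 G} {P : Subgroup G} {m : ℕ}
  {ε : (Fin (2 ^ m + 1) → ZMod 2) → G} {ι : Type} {X Y : ι → Fin (2 ^ m + 1)} {N : ι → Subgroup G}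
  {t r : ι → G}

/-! ### 2-subgroups over `B` or `J(S)` -/

theorem two_le_bau (h : Hyp S P ε) (h3 : 3 ≤ m) {T : Subgroup G} (hT : IsPGroup 2 T)
    (hB : bau (S : Subgroup G) ≤ T) : T ≤ normalizer (zl (S : Subgroup G) P : Set G) :=
  (LemmaK.Main.le_normalizer_bau S hT hB).trans (bau_le h h3)

theorem jj_eq_of_le (S : Sylow 2 G) {T : Subgroup G} (hT : IsPGroup 2 T)
    (hJ : jj (S : Subgroup G) ≤ T) : jj T = jj (S : Subgroup G) := by
  obtain ⟨S', hS'⟩ := hT.exists_le_sylow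
  obtain ⟨g, hg⟩ := MulAction.exists_smul_eq G S S'
  have hg2 : (S' : Subgroup G) = cj g (S : Subgroup G) := by
    rw [← hg, Sylow.coe_subgroup_smul]
    rfl
  have hmm : mm (S' : Subgroup G) = mm (S : Subgroup G) := by rw [hg2, mm_cj]
  obtain ⟨A₀, hA₀⟩ := AA_nonempty (S : Subgroup G)
  have h1 : mm (S' : Subgroup G) ≤ mm T := by
    rw [hmm, mm_eq hA₀]
    exact card_le_mm hA₀.1 ((ChoiceBase.le_jj hA₀).trans hJ)
  have h2 : jj (S : Subgroup G) ≤ jj T := by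
    conv_lhs => rw [ChoiceBase.jj_eq]
    refine sSup_le fun A hA => ChoiceBase.le_jj ?_
    refine ⟨hA.1, (ChoiceBase.le_jj hA).trans hJ, fun B hB _ => ?_⟩
    exact (card_le_mm' S hB).trans (mm_eq hA).le
  have h4 := jj_mono hS' h1
  refine (Subgroup.eq_of_le_of_card_ge h2 ?_).symm
  refine (Subgroup.card_le_of_le h4).trans ?_
  rw [hg2, jj_cj, card_cj]

theorem two_le_jj (h : Hyp S P ε) (h3 : 3 ≤ m) {T : Subgroup G} (hT : IsPGroup 2 T)
    (hJ : jj (S : Subgroup G) ≤ T) : T ≤ normalizer (zl (S : Subgroup G) P : Set G) := by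
  refine le_trans ?_ (Norm.jj_le h h3)
  rw [← jj_eq_of_le S hT hJ]
  exact Subgroup.le_normalizer.trans (normalizer_le_of_cj (F := jj) jj_cj T)

theorem S_le (h : Hyp S P ε) : (S : Subgroup G) ≤ normalizer (zl (S : Subgroup G) P : Set G) :=
  h.SP.trans h.ev.le_normalizer

theorem syl_S (h : Hyp S P ε) :
    ChoiceSit.Syl (S : Subgroup G) (normalizer (zl (S : Subgroup G) P : Set G)) :=
  ⟨S_le h, S.isPGroup', fun _ _ hT hST => S.is_maximal' hT hST⟩

/-- A 2-subgroup of `N_G(V)` is conjugate there into `S`. -/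
theorem conj_S (h : Hyp S P ε) {R : Subgroup G} (hR : IsPGroup 2 R)
    (hRM : R ≤ normalizer (zl (S : Subgroup G) P : Set G)) :
    ∃ k ∈ normalizer (zl (S : Subgroup G) P : Set G), cj k R ≤ (S : Subgroup G) := by
  obtain ⟨R', hR', hRR'⟩ := ChoiceSit.exists_syl hR hRM
  obtain ⟨k, hk, hkR⟩ := ChoiceSit.syl_conj hR' (syl_S h)
  exact ⟨k, hk, hkR ▸ cj_mono k hRR'⟩

theorem mem_of_bau (h : Hyp S P ε) (h3 : 3 ≤ m) {x : G}
    (hx : cj x (bau (S : Subgroup G)) ≤ normalizer (zl (S : Subgroup G) P : Set G)) :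
    x ∈ normalizer (zl (S : Subgroup G) P : Set G) := by
  have hB2 : IsPGroup 2 (bau (S : Subgroup G)) := S.isPGroup'.to_le (ChoiceBase.bau_le _)
  obtain ⟨k, hk, hkR⟩ := conj_S h (isPGroup_cj x hB2) hx
  rw [cj_cj] at hkR
  have h1 : bau (S : Subgroup G) ≤ cj (k * x)⁻¹ (S : Subgroup G) := cj_le_iff.1 hkR
  have h2 := LemmaK.Main.bau_eq S (isPGroup_cj _ S.isPGroup') h1
  rw [bau_cj] at h2
  have h4 := bau_le h h3 (mem_normalizer_iff_cj.2 h2)
  have h5 := mul_mem (inv_mem hk) (inv_mem h4)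
  rwa [inv_inv, inv_mul_cancel_left] at h5

theorem mem_of_jj (h : Hyp S P ε) (h3 : 3 ≤ m) {x : G}
    (hx : cj x (jj (S : Subgroup G)) ≤ normalizer (zl (S : Subgroup G) P : Set G)) :
    x ∈ normalizer (zl (S : Subgroup G) P : Set G) := by
  have hB2 : IsPGroup 2 (jj (S : Subgroup G)) := S.isPGroup'.to_le (ChoiceBase.jj_le _)
  obtain ⟨k, hk, hkR⟩ := conj_S h (isPGroup_cj x hB2) hx
  rw [cj_cj] at hkR
  have h1 : jj (S : Subgroup G) ≤ cj (k * x)⁻¹ (S : Subgroup G) := cj_le_iff.1 hkR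
  have h2 := jj_eq_of_le S (isPGroup_cj _ S.isPGroup') h1
  rw [jj_cj] at h2
  have h4 := Norm.jj_le h h3 (mem_normalizer_iff_cj.2 h2)
  have h5 := mul_mem (inv_mem hk) (inv_mem h4)
  rwa [inv_inv, inv_mul_cancel_left] at h5

/-! ### Transpositions in `S` -/

/-- the setting of `CosetAct` with `W = 1` -/
theorem cosetHyp (h : Hyp S P ε) {i j : Fin (2 ^ m + 1)} (hij : i ≠ j)
    (hb : ∃ b ∈ (S : Subgroup G), Acts ε b (Equiv.swap i j)) :
    CosetAct.Hyp (zl (S : Subgroup G) P) P (S : Subgroup G) ⊥ ε i j where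
  even := h.ev
  VP := h.VQ.trans h.QP
  two_le := h.hm
  le := h.SP
  isP := S.isPGroup'
  max T hT := by
    obtain ⟨T', hT'⟩ := hT.exists_le_sylow
    calc Nat.card T ≤ Nat.card (T' : Subgroup G) := Subgroup.card_le_of_le hT'
      _ = Nat.card (S : Subgroup G) := Nat.card_congr (Sylow.equiv T' S).toEquiv
  fix0 := h.fix0
  ne := hij
  swap := hb
  isPW := IsPGroup.of_bot
  leW := bot_le
  norm g _ := by
    rw [mem_normalizer_iff_cj]
    exact Subgroup.map_bot _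

/-- The transpositions induced by `S` are the pairs of the matching. -/
theorem exists_pair (h : Hyp S P ε) (hd : Dat S P ε X Y N t r) {i j : Fin (2 ^ m + 1)} (hij : i ≠ j)
    (hb : ∃ b ∈ (S : Subgroup G), Acts ε b (Equiv.swap i j)) :
    ∃ p, (i = X p ∧ j = Y p) ∨ (i = Y p ∧ j = X p) := by
  have hc := cosetHyp h hij hb
  obtain ⟨p, h1⟩ := hd.cov i hc.i_ne_zero
  refine ⟨p, ?_⟩
  have ht : t p ∈ (S : Subgroup G) := hd.bas.tT p
  obtain ⟨b, hbS, hbA⟩ := hb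
  rcases h1 with h1 | h1
  · left
    refine ⟨h1.symm, ?_⟩
    by_contra hne
    have hc' := cosetHyp h (hd.ne p).symm ⟨t p, ht, by rw [Equiv.swap_comm]; exact hd.tA p⟩
    have h2 := hc'.fix_j hbS hbA (Equiv.swap_apply_of_ne_of_ne (by rw [← h1]; exact (hd.ne p).symm)
      (Ne.symm hne))
    rw [h1, Equiv.swap_apply_left] at h2
    exact hij h2.symm
  · right
    refine ⟨h1.symm, ?_⟩
    by_contra hne
    have hc' := cosetHyp h (hd.ne p) ⟨t p, ht, hd.tA p⟩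
    have h2 := hc'.fix_j hbS hbA (Equiv.swap_apply_of_ne_of_ne (by rw [← h1]; exact hd.ne p)
      (Ne.symm hne))
    rw [h1, Equiv.swap_apply_left] at h2
    exact hij h2.symm

theorem rr_zj (h : Hyp S P ε) {i j : Fin (2 ^ m + 1)} (hij : i ≠ j)
    (hb : ∃ b ∈ (S : Subgroup G), Acts ε b (Equiv.swap i j)) : rr ε i j ∈ zj (S : Subgroup G) := by
  obtain ⟨ι, X, Y, N, t, r, -, hd⟩ := h.exists_dat
  obtain ⟨p, h1 | h1⟩ := exists_pair h hd hij hb
  · rw [h1.1, h1.2]; exact hd.bas.d_mem_Z p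
  · rw [h1.1, h1.2, rr_symm h.ev]; exact hd.bas.d_mem_Z p

theorem bau_le_cent {z : G} (hz : z ∈ zj (S : Subgroup G)) :
    bau (S : Subgroup G) ≤ (S : Subgroup G) ⊓ centralizer ({z} : Set G) := fun b hb =>
  ⟨ChoiceBase.bau_le _ hb, mem_centralizer_singleton_iff.2 ((ChoiceBase.mem_bau.1 hb).2 z hz).symm⟩

/-! ### The order of `C_S(r_ab)` -/

/-- `|C_S(z_a)| 2^m ≤ |S|` for `a ≠ 0`. -/
theorem card_fix (h : Hyp S P ε) {a : Fin (2 ^ m + 1)} (ha : a ≠ 0) :
    Nat.card ↥((S : Subgroup G) ⊓ centralizer ({zz ε a} : Set G)) * 2 ^ m ≤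
      Nat.card (S : Subgroup G) := by
  classical
  have hS2 : ¬ 2 ∣ (S : Subgroup G).relIndex P := MinSimple.Basic.not_dvd_relIndex S h.SP
  have htr := fun (c : {c : Fin (2 ^ m + 1) // c ≠ 0}) =>
    S5.Syl.trans (by have := h.hm; omega) h.ev h.SP hS2 h.fix0 ha c.2
  choose s hs σ hσ hσa using htr
  have h1 : Nat.card (↥((S : Subgroup G) ⊓ centralizer ({zz ε a} : Set G)) ×
      {c : Fin (2 ^ m + 1) // c ≠ 0}) ≤ Nat.card (S : Subgroup G) := by
    refine Nat.card_le_card_of_injective (fun p => (⟨s p.2 * (p.1 : G),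
      mul_mem (hs p.2) p.1.2.1⟩ : (S : Subgroup G))) ?_
    rintro ⟨y, c⟩ ⟨y', c'⟩ hyy
    have h2 : s c * (y : G) = s c' * (y' : G) := congrArg Subtype.val hyy
    have h3 : ∀ (c : {c : Fin (2 ^ m + 1) // c ≠ 0})
        (y : ↥((S : Subgroup G) ⊓ centralizer ({zz ε a} : Set G))),
        (s c * (y : G)) * zz ε a * (s c * (y : G))⁻¹ = zz ε c := by
      intro c y
      have h4 := mem_centralizer_singleton_iff.1 y.2.2
      calc (s c * (y : G)) * zz ε a * (s c * (y : G))⁻¹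
          = s c * ((y : G) * zz ε a) * (y : G)⁻¹ * (s c)⁻¹ := by group
        _ = s c * zz ε a * (s c)⁻¹ := by rw [h4]; group
        _ = zz ε c := by rw [zz_conj (hσ c), hσa]
    have h5 : zz ε (c : Fin (2 ^ m + 1)) = zz ε c' := by rw [← h3 c y, ← h3 c' y', h2]
    have h6 : c = c' := Subtype.ext (h.ev.single_inj h.three h5)
    subst h6
    exact Prod.ext (Subtype.ext (mul_left_cancel h2)) rfl
  rw [Nat.card_prod] at h1
  have h3 : Nat.card {x : Fin (2 ^ m + 1) // x ≠ 0} = 2 ^ m := by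
    rw [Nat.card_eq_fintype_card, Fintype.card_subtype_compl]
    simp
  rwa [h3] at h1

/-- different pairs have different vectors (five points) -/
theorem rr_ne {n : ℕ} {V L : Subgroup G} {ε : (Fin n → ZMod 2) → G} (h : EvenSet n V L ε) (hn : 5 ≤ n)
    {i j k l : Fin n} (hij : i ≠ j) (hki : k ≠ i) (hli : l ≠ i) : rr ε i j ≠ rr ε k l := by
  intro h0
  have hrr : ∀ i j : Fin n, rr ε i j = ε (Pi.single i 1 + Pi.single j 1) := fun i j => (h.add _ _).symm
  rw [hrr, hrr, h.eq_iff] at h0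
  obtain ⟨q, hq⟩ : ∃ q : Fin n, q ∉ ({i, j, k, l} : Finset (Fin n)) := by
    by_contra hc
    push Not at hc
    have h1 : (Finset.univ : Finset (Fin n)).card ≤ ({i, j, k, l} : Finset (Fin n)).card :=
      Finset.card_le_card fun x _ => hc x
    have h2 : ({i, j, k, l} : Finset (Fin n)).card ≤ 4 := Finset.card_le_four
    rw [Finset.card_univ, Fintype.card_fin] at h1
    omega
  simp only [Finset.mem_insert, Finset.mem_singleton, not_or] at hq
  obtain ⟨q1, q2, q3, q4⟩ := hq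
  rcases h0 with h0 | h0
  · have h1 := congrFun h0 i
    rw [Pi.add_apply, Pi.add_apply, Pi.single_eq_same, Pi.single_eq_of_ne hij, Pi.single_eq_of_ne hki.symm,
      Pi.single_eq_of_ne hli.symm, add_zero, add_zero] at h1
    exact one_ne_zero h1
  · have h1 := congrFun h0 q
    rw [Pi.add_apply, Pi.add_apply, Pi.add_apply, Pi.single_eq_of_ne q1, Pi.single_eq_of_ne q2,
      Pi.single_eq_of_ne q3, Pi.single_eq_of_ne q4, Pi.one_apply, add_zero, zero_add] at h1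
    exact zero_ne_one h1

/-- An element acting on `V` and centralising `r_ab` preserves the pair. -/
theorem pair_of_cent (h : Hyp S P ε) {a b : Fin (2 ^ m + 1)} (hab : a ≠ b) {g : G}
    {σ : Equiv.Perm (Fin (2 ^ m + 1))} (hσ : Acts ε g σ) (hc : g * rr ε a b = rr ε a b * g) :
    σ a = a ∨ σ a = b := by
  by_contra hcon
  push Not at hcon
  have h1 := rr_conj hσ a b
  have h2 : g * rr ε a b * g⁻¹ = rr ε a b := by rw [hc]; group
  rw [h2] at h1
  exact rr_ne h.ev h.five (σ.injective.ne hab) (Ne.symm hcon.1) (Ne.symm hcon.2) h1.symm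

/-- `|C_S(r_ab)| 2^(m-1) ≤ |S|`. -/
theorem card_rr (h : Hyp S P ε) {a b : Fin (2 ^ m + 1)} (hab : a ≠ b) :
    Nat.card ↥((S : Subgroup G) ⊓ centralizer ({rr ε a b} : Set G)) * 2 ^ (m - 1) ≤
      Nat.card (S : Subgroup G) := by
  classical
  wlog ha : a ≠ 0 generalizing a b
  · rw [rr_symm h.ev]
    exact this hab.symm fun hb => ha fun h0 => hab (h0.trans hb.symm)
  have h1 := card_fix h ha
  have hm2 : (2 : ℕ) ^ m = 2 * 2 ^ (m - 1) := by
    rw [← pow_succ']; congr 1; have := h.hm; omega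
  set T := (S : Subgroup G) ⊓ centralizer ({rr ε a b} : Set G) with hT
  set U := (S : Subgroup G) ⊓ centralizer ({zz ε a} : Set G) with hU
  have hfix : ∀ {g : G} {σ : Equiv.Perm (Fin (2 ^ m + 1))}, g ∈ (S : Subgroup G) → Acts ε g σ →
      σ a = a → g ∈ U := by
    intro g σ hg hσ h2
    refine ⟨hg, mem_centralizer_singleton_iff.2 ?_⟩
    have h3 := zz_conj hσ a
    rw [h2] at h3
    exact comm_of_conj h3
  have h2 : Nat.card T ≤ 2 * Nat.card U := by
    by_cases hTU : T ≤ U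
    · have := Subgroup.card_le_of_le hTU
      omega
    · obtain ⟨c, hc, hcU⟩ := Set.not_subset.1 hTU
      replace hc : c ∈ T := hc
      obtain ⟨τ, hτ⟩ := h.ev.perm c (h.SP hc.1)
      have hτa : τ a = b := by
        rcases pair_of_cent h hab hτ (mem_centralizer_singleton_iff.1 hc.2) with h3 | h3
        · exact absurd (hfix hc.1 hτ h3) hcU
        · exact h3
      refine card_le_two (c := c) fun y hy hyU => ?_
      obtain ⟨σ, hσ⟩ := h.ev.perm y (h.SP hy.1)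
      have hσa : σ a = b := by
        rcases pair_of_cent h hab hσ (mem_centralizer_singleton_iff.1 hy.2) with h3 | h3
        · exact absurd (hfix hy.1 hσ h3) hyU
        · exact h3
      refine hfix (mul_mem (inv_mem hc.1) hy.1) (hτ.inv.mul hσ) ?_
      rw [Equiv.Perm.mul_apply, hσa, ← hτa]
      exact τ.symm_apply_apply a
  rw [hm2] at h1
  have h4 : Nat.card T * 2 ^ (m - 1) ≤ 2 * Nat.card U * 2 ^ (m - 1) := Nat.mul_le_mul_right _ h2
  calc Nat.card T * 2 ^ (m - 1) ≤ 2 * Nat.card U * 2 ^ (m - 1) := h4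
    _ = Nat.card U * (2 * 2 ^ (m - 1)) := by ring
    _ ≤ _ := h1

/-- **(6)** `C_S(r_ij)` is a Sylow 2-subgroup of `C_G(r_ij)` if `S` induces `(i j)`. -/
theorem syl (h : Hyp S P ε) (h3 : 3 ≤ m) {i j : Fin (2 ^ m + 1)} (hij : i ≠ j)
    (hb : ∃ b ∈ (S : Subgroup G), Acts ε b (Equiv.swap i j)) :
    ChoiceSit.Syl ((S : Subgroup G) ⊓ centralizer ({rr ε i j} : Set G))
      (centralizer ({rr ε i j} : Set G)) := by
  have hc := cosetHyp h hij hb
  refine ⟨inf_le_right, S.isPGroup'.to_le inf_le_left, fun R hRC hR hTR => ?_⟩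
  have hBR := (bau_le_cent (rr_zj h hij hb)).trans hTR
  have hRM := two_le_bau h h3 hR hBR
  obtain ⟨k, hk, hkS⟩ := conj_S h hR hRM
  have hM := Cfsg.Agent.Omega.NSix.Norm.evenSet' h.hm S h.ev h.SP h.fix0
  obtain ⟨σ, hσ⟩ := hM.perm k hk
  have h1 : cj k R ≤ (S : Subgroup G) ⊓ centralizer ({rr ε (σ i) (σ j)} : Set G) := by
    refine le_inf hkS ?_
    rintro _ ⟨x, hx, rfl⟩
    rw [mem_centralizer_singleton_iff, ← rr_conj hσ]
    have h2 := mem_centralizer_singleton_iff.1 (hRC hx)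
    change k * x * k⁻¹ * (k * rr ε i j * k⁻¹) = k * rr ε i j * k⁻¹ * (k * x * k⁻¹)
    calc k * x * k⁻¹ * (k * rr ε i j * k⁻¹) = k * (x * rr ε i j) * k⁻¹ := by group
      _ = k * (rr ε i j * x) * k⁻¹ := by rw [h2]
      _ = _ := by group
  have h4 := card_rr h (σ.injective.ne hij)
  have h5 := Subgroup.card_le_of_le h1
  rw [card_cj] at h5
  have h6 := hc.relIndex_S_le
  have h7 : Nat.card ↥((S : Subgroup G) ⊓ centralizer ({rr ε i j} : Set G)) *
      ((S : Subgroup G) ⊓ centralizer ({rr ε i j} : Set G)).relIndex (S : Subgroup G) =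
      Nat.card (S : Subgroup G) := CosetAct.Hyp.card_mul_relIndex' inf_le_left
  refine (Subgroup.eq_of_le_of_card_ge hTR ?_).symm
  set T := (S : Subgroup G) ⊓ centralizer ({rr ε i j} : Set G) with hT
  have h8 : Nat.card R * 2 ^ (m - 1) ≤ Nat.card T * 2 ^ (m - 1) := by
    calc Nat.card R * 2 ^ (m - 1)
        ≤ Nat.card ↥((S : Subgroup G) ⊓ centralizer ({rr ε (σ i) (σ j)} : Set G)) * 2 ^ (m - 1) :=
          Nat.mul_le_mul_right _ h5
      _ ≤ Nat.card (S : Subgroup G) := h4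
      _ = Nat.card T * T.relIndex (S : Subgroup G) := h7.symm
      _ ≤ Nat.card T * 2 ^ (m - 1) := Nat.mul_le_mul_left _ h6
  exact Nat.le_of_mul_le_mul_right h8 (by positivity)

/-! ### Fusion -/

/-- An even vector is conjugate to a union of pairs. -/
theorem exists_fc (hm : 1 ≤ m) (hd : Dat S P ε X Y N t r) {x : Fin (2 ^ m + 1) → ZMod 2}
    (hx : ∑ i, x i = 0) : ∃ (σ : Equiv.Perm (Fin (2 ^ m + 1))) (c : ι → ZMod 2),
      x ∘ σ.symm = fc X Y c := by
  classical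
  have h01 : ∀ a : ZMod 2, a = 0 ∨ a = 1 := by decide
  have hcι := card_idx hm hd
  have hfin : Finite ι := Nat.finite_of_card_ne_zero (by rw [hcι]; positivity)
  have := Fintype.ofFinite ι
  rw [Nat.card_eq_fintype_card] at hcι
  set s := Finset.univ.filter (fun i => x i = 1) with hs
  have hsum : ∑ i, x i = (s.card : ZMod 2) := by
    rw [← Finset.sum_boole]
    refine Finset.sum_congr rfl fun i _ => ?_
    rcases h01 (x i) with h1 | h1
    · rw [h1, if_neg zero_ne_one]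
    · rw [h1, if_pos rfl]
  rw [hx] at hsum
  have heven : 2 ∣ s.card := (ZMod.natCast_eq_zero_iff _ _).1 hsum.symm
  obtain ⟨k, hk⟩ := heven
  have hsle : s.card ≤ 2 ^ m + 1 := by
    have := Finset.card_le_univ s
    rwa [Fintype.card_fin] at this
  have hm2 : (2 : ℕ) ^ m = 2 * 2 ^ (m - 1) := by
    rw [← pow_succ']; congr 1; omega
  have hkι : k ≤ (Finset.univ : Finset ι).card := by
    rw [Finset.card_univ, hcι]; omega
  obtain ⟨F, -, hF⟩ := Finset.exists_subset_card_eq hkι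
  let c : ι → ZMod 2 := fun i => if i ∈ F then 1 else 0
  have hX : Function.Injective X := fun i j hij => by
    by_contra hne
    exact (hd.disj i j hne).1 hij
  have hY : Function.Injective Y := fun i j hij => by
    by_contra hne
    exact (hd.disj i j hne).2.2.2 hij
  set s' := F.image X ∪ F.image Y with hs'
  have hdis : Disjoint (F.image X) (F.image Y) := by
    rw [Finset.disjoint_left]
    intro a ha hb
    obtain ⟨i, -, rfl⟩ := Finset.mem_image.1 ha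
    obtain ⟨j, -, hj⟩ := Finset.mem_image.1 hb
    by_cases hij : i = j
    · subst hij; exact hd.ne i hj.symm
    · exact (hd.disj i j hij).2.1 hj.symm
  have hcs' : s'.card = s.card := by
    rw [hs', Finset.card_union_of_disjoint hdis, Finset.card_image_of_injective _ hX,
      Finset.card_image_of_injective _ hY, hF, hk]
    ring
  have hfc : ∀ a, fc X Y c a = 1 ↔ a ∈ s' := by
    intro a
    by_cases ha : a = 0
    · rw [ha, fc_zero hd]
      refine ⟨fun h0 => absurd h0 zero_ne_one, fun h0 => ?_⟩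
      exfalso
      rcases Finset.mem_union.1 h0 with h1 | h1
      · obtain ⟨i, -, hi⟩ := Finset.mem_image.1 h1
        exact hd.X0 i hi
      · obtain ⟨i, -, hi⟩ := Finset.mem_image.1 h1
        exact hd.Y0 i hi
    · obtain ⟨i, hi⟩ := hd.cov a ha
      rw [fc_eq hd c hi]
      have hci : c i = 1 ↔ i ∈ F := by
        show (if i ∈ F then (1 : ZMod 2) else 0) = 1 ↔ _
        split_ifs with h1
        · exact ⟨fun _ => h1, fun _ => rfl⟩
        · exact ⟨fun h0 => absurd h0 zero_ne_one, fun h0 => absurd h0 h1⟩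
      rw [hci, hs', Finset.mem_union, Finset.mem_image, Finset.mem_image]
      constructor
      · intro h1
        rcases hi with h2 | h2
        · exact Or.inl ⟨i, h1, h2⟩
        · exact Or.inr ⟨i, h1, h2⟩
      · rintro (⟨j, hj, hja⟩ | ⟨j, hj, hja⟩)
        · have : i = j := by
            by_contra hne
            rcases hi with h2 | h2
            · exact (hd.disj i j hne).1 (h2.trans hja.symm)
            · exact (hd.disj i j hne).2.2.1 (h2.trans hja.symm)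
          rwa [this]
        · have : i = j := by
            by_contra hne
            rcases hi with h2 | h2
            · exact (hd.disj i j hne).2.1 (h2.trans hja.symm)
            · exact (hd.disj i j hne).2.2.2 (h2.trans hja.symm)
          rwa [this]
  let e : {a // a ∈ s} ≃ {a // a ∈ s'} := Finset.equivOfCardEq hcs'.symm
  refine ⟨e.extendSubtype, c, ?_⟩
  have key : ∀ a, x a = fc X Y c (e.extendSubtype a) := by
    intro a
    by_cases ha : a ∈ s
    · have h1 := e.extendSubtype_mem a ha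
      rw [(hfc _).2 h1]
      exact (Finset.mem_filter.1 ha).2
    · have h1 := e.extendSubtype_not_mem a ha
      have h2 : fc X Y c (e.extendSubtype a) = 0 := by
        rcases h01 (fc X Y c (e.extendSubtype a)) with h2 | h2
        · exact h2
        · exact absurd ((hfc _).1 h2) h1
      rw [h2]
      rcases h01 (x a) with h4 | h4
      · exact h4
      · exact absurd (show a ∈ s by rw [hs, Finset.mem_filter]; exact ⟨Finset.mem_univ _, h4⟩) ha
  funext b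
  rw [Function.comp_apply, key, Equiv.apply_symm_apply]

/-- Every element of `V` is conjugate in `P` to an element of `Z_J`. -/
theorem exists_zj (h : Hyp S P ε) {v : G} (hv : v ∈ zl (S : Subgroup G) P) :
    ∃ g ∈ P, g * v * g⁻¹ ∈ zj (S : Subgroup G) := by
  obtain ⟨ι, X, Y, N, t, r, -, hd⟩ := h.exists_dat
  have hm : 1 ≤ m := by have := h.hm; omega
  obtain ⟨x, rfl⟩ := h.ev.surj v hv
  obtain ⟨σ, c, hσ⟩ := exists_fc hm hd (S5.Of.sum_hat hm x)
  obtain ⟨g, hg, hgσ⟩ := h.ev.full σ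
  refine ⟨g, hg, ?_⟩
  rw [← OfEven.eps_hat h.ev, hgσ, hσ]
  exact eps_fc_mem h hd c

/-- Fusion of elements of `Z_J`. -/
theorem control_zj (h : Hyp S P ε) (h3 : 3 ≤ m) {v g : G} (hv : v ∈ zj (S : Subgroup G))
    (hg : g * v * g⁻¹ ∈ zj (S : Subgroup G)) :
    ∃ k ∈ normalizer (zl (S : Subgroup G) P : Set G), k * v * k⁻¹ = g * v * g⁻¹ := by
  have hB2 : IsPGroup 2 (bau (S : Subgroup G)) := S.isPGroup'.to_le (ChoiceBase.bau_le _)
  have h1 : bau (S : Subgroup G) ≤ centralizer ({v} : Set G) :=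
    (bau_le_cent hv).trans inf_le_right
  have h2 : cj g⁻¹ (bau (S : Subgroup G)) ≤ centralizer ({v} : Set G) := by
    rintro _ ⟨b, hb, rfl⟩
    rw [mem_centralizer_singleton_iff]
    have h4 := mem_centralizer_singleton_iff.1 (bau_le_cent hg hb).2
    change g⁻¹ * b * g⁻¹⁻¹ * v = v * (g⁻¹ * b * g⁻¹⁻¹)
    calc g⁻¹ * b * g⁻¹⁻¹ * v = g⁻¹ * (b * (g * v * g⁻¹)) * g := by group
      _ = g⁻¹ * (g * v * g⁻¹ * b) * g := by rw [h4]
      _ = v * (g⁻¹ * b * g⁻¹⁻¹) := by group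
  obtain ⟨R, hR, hBR⟩ := ChoiceSit.exists_syl hB2 h1
  obtain ⟨R', hR', hBR'⟩ := ChoiceSit.exists_syl (isPGroup_cj g⁻¹ hB2) h2
  obtain ⟨c, hc, hcR⟩ := ChoiceSit.syl_conj hR hR'
  have h5 := mem_centralizer_singleton_iff.1 hc
  -- `B^c ≤ R' ≤ N_G(V)^(g⁻¹)`
  have h6 : bau (S : Subgroup G) ≤ cj g R' := by
    have := cj_mono g hBR'
    rwa [cj_cj_inv] at this
  have h7 := two_le_bau h h3 (isPGroup_cj g hR'.2.1) h6
  have h8 : cj (g * c) (bau (S : Subgroup G)) ≤ normalizer (zl (S : Subgroup G) P : Set G) := by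
    rw [← cj_cj]
    refine le_trans (cj_mono g ?_) h7
    rw [← hcR]
    exact cj_mono c hBR
  refine ⟨g * c, mem_of_bau h h3 h8, ?_⟩
  calc g * c * v * (g * c)⁻¹ = g * (c * v) * c⁻¹ * g⁻¹ := by group
    _ = g * v * g⁻¹ := by rw [h5]; group

/-- **(7)** `N_G(V)` controls fusion in `V`. -/
theorem control (h : Hyp S P ε) (h3 : 3 ≤ m) {v g : G} (hv : v ∈ zl (S : Subgroup G) P)
    (hg : g * v * g⁻¹ ∈ zl (S : Subgroup G) P) :
    ∃ k ∈ normalizer (zl (S : Subgroup G) P : Set G), k * v * k⁻¹ = g * v * g⁻¹ := by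
  obtain ⟨a, ha, hav⟩ := exists_zj h hv
  obtain ⟨b, hb, hbv⟩ := exists_zj h hg
  have haM := h.ev.le_normalizer ha
  have hbM := h.ev.le_normalizer hb
  obtain ⟨k, hk, hkv⟩ := control_zj h h3 (v := a * v * a⁻¹) (g := b * g * a⁻¹) hav (by
    have e : b * g * a⁻¹ * (a * v * a⁻¹) * (b * g * a⁻¹)⁻¹ = b * (g * v * g⁻¹) * b⁻¹ := by group
    rwa [e])
  refine ⟨b⁻¹ * k * a, mul_mem (mul_mem (inv_mem hbM) hk) haM, ?_⟩
  calc b⁻¹ * k * a * v * (b⁻¹ * k * a)⁻¹ = b⁻¹ * (k * (a * v * a⁻¹) * k⁻¹) * b := by group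
    _ = b⁻¹ * (b * g * a⁻¹ * (a * v * a⁻¹) * (b * g * a⁻¹)⁻¹) * b := by rw [hkv]
    _ = g * v * g⁻¹ := by group

end Cfsg.Agent.Omega.NSix.CaseJ.Fus

end
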