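import Cfsg.Agent.Mrg.Omega.NSix.CaseJ.Blk
import Cfsg.Agent.Mrg.Omega.NSix.CaseJ.Exact
import Cfsg.Agent.Mrg.Omega.OM.BlkGen

section


/-!
# OMEGA N6, case `J(S) ≰ O₂(P)`: FF-blocks over `B = bau S` lie in `N_G(V)`

`hp : PB (bau S) L W W1 W0 q` is an FF-block over `B` (arbitrary `q`, arbitrary extension of the natural module by
a trivial one), some involution `d i₀` of a pair commutes with `L`:

* `W_le_Q` : `W ≤ O₂(P)`;
* `W_le_V_two` (`q = 2`, LEMMA Q), `W_le_V_big` (`q > 2`, exact offenders);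
* `q_eq_two`;
* `L_le` : `L ≤ N_G(V)` (LEMMA K and LEMMA N).
-/

set_option autoImplicit false
set_option linter.unusedSectionVars false

namespace Cfsg.Agent.Omega.NSix.CaseJ.PBlock

open Subgroup Cfsg Cfsg.Agent.PLocal.ThompsonJ Cfsg.Agent.ZN Cfsg.Agent.ZN.ChoiceBase
open Cfsg.Agent.ZN.ChoiceSit Cfsg.Agent.PLocal.ElemAbSup
open Cfsg.Agent.Omega.MinPar
open Cfsg.Agent.Omega.S5.Def Cfsg.Agent.Omega.S5.Syl Cfsg.Agent.Omega.S5.Pair
open Cfsg.Agent.Omega.NSix.Base Cfsg.Agent.Omega.NSix.Basic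
open Cfsg.Agent.Omega.SQ1.Bau (elem_comm elem_sq mem_sup_comm card_sup_comm Mv)
open Cfsg.Agent.Omega.LemmaK (Block WeakNormal)
open Cfsg.Agent.Omega.OM (PB)
open Cfsg.Agent.Omega.NSix.CaseJ.Base Cfsg.Agent.Omega.NSix.CaseJ.Exact
open Cfsg.Agent.Omega.NSix.CaseJ.LemQ Cfsg.Agent.Omega.NSix.CaseJ.Blk Cfsg.Agent.Omega.NSix.CaseJ.Norm
open Cfsg.Agent.Omega.NSix.CaseJ.Fus

universe u

variable {G : Type u} [Group G] [Finite G] {S : Sylow 2 G} {P : Subgroup G} {m : ℕ}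
  {ε : (Fin (2 ^ m + 1) → ZMod 2) → G} {ι : Type} {X Y : ι → Fin (2 ^ m + 1)} {N : ι → Subgroup G}
  {t r : ι → G} {L W W1 W0 : Subgroup G} {q : ℕ}

theorem weak (S : Sylow 2 G) : WeakNormal 2 (bau (S : Subgroup G)) := fun _ hR hBR =>
  LemmaK.Main.le_normalizer_bau S hR hBR

/-! ### General facts -/

theorem W1_le (hp : PB (bau (S : Subgroup G)) L W W1 W0 q) : W1 ≤ zj (S : Subgroup G) := by
  intro n hn
  rw [← ChoiceBase.zc_bau, ChoiceBase.mem_zc]
  have h1 := hp.N1N hn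
  exact ⟨hp.NB h1, elem_sq hp.el n h1, fun b hb => hp.N1c b hb n hn⟩

theorem W1_le_V (h : Hyp S P ε) (hp : PB (bau (S : Subgroup G)) L W W1 W0 q) :
    W1 ≤ zl (S : Subgroup G) P := (W1_le hp).trans (LemQ.zj_le h)

theorem W0_le_V (h : Hyp S P ε) (hp : PB (bau (S : Subgroup G)) L W W1 W0 q) :
    W0 ≤ zl (S : Subgroup G) P := hp.N01.trans (W1_le_V h hp)

/-- The elements of `W1` commuting with `L` lie in `W0`. -/
theorem mem_W0 (hp : PB (bau (S : Subgroup G)) L W W1 W0 q) {z : G} (hz : z ∈ W1)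
    (hc : ∀ l ∈ L, l * z = z * l) : z ∈ W0 := by
  obtain ⟨l, hl, hm⟩ := hp.mv
  have e : l * z * l⁻¹ = z := by rw [hc l hl]; group
  have := hp.opp l hl hm z hz (by rw [e]; exact hz)
  rwa [e] at this

/-- The block of a pair as a `PB`. -/
theorem pb_i (hd : Dat S P ε X Y N t r) {i : ι} {L : Subgroup G} (k : Bk S P ε X Y r i L) :
    PB (bau (S : Subgroup G)) L (N i) (zpowers (rr ε (X i) (Y i))) ⊥ 2 :=
  OM.FBS.pb hd.bas (weak S) k

theorem comm_i (hd : Dat S P ε X Y N t r) {i : ι} {L : Subgroup G} (k : Bk S P ε X Y r i L) :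
    ⁅N i, L⁆ = N i := OM.FBS.comm_eq hd.bas (weak S) k

/-- **LEMMA K** for two FF-blocks over conjugates of `B` commuting with a common involution. -/
theorem comm_pb (h : Hyp S P ε) {L' W' W1' W0' : Subgroup G} {q' : ℕ}
    (hp : PB (bau (S : Subgroup G)) L W W1 W0 q) (hp' : PB (bau (S : Subgroup G)) L' W' W1' W0' q')
    {x y w : G} (hw1 : w ≠ 1) (hw2 : w * w = 1)
    (hx : ∀ l ∈ L, (x * l * x⁻¹) * w = w * (x * l * x⁻¹))
    (hy : ∀ l ∈ L', (y * l * y⁻¹) * w = w * (y * l * y⁻¹)) {a b : G}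
    (ha : a ∈ (⁅W, L⁆ : Subgroup G)) (hb : b ∈ (⁅W', L'⁆ : Subgroup G)) :
    (x * a * x⁻¹) * (y * b * y⁻¹) = (y * b * y⁻¹) * (x * a * x⁻¹) := by
  have b1 := OM.BlkGen.block_conj (hp.block (weak S)) x
  have b2 := OM.BlkGen.block_conj (hp'.block (weak S)) y
  have key : ∀ (x : G) (L : Subgroup G), (∀ l ∈ L, (x * l * x⁻¹) * w = w * (x * l * x⁻¹)) →
      cj x L ≤ normalizer (zpowers w : Set G) := by
    intro x L hx
    rintro _ ⟨l, hl, rfl⟩
    refine mem_normalizer_of_cj_le ?_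
    rintro _ ⟨v, hv, rfl⟩
    have h1 := hx l hl
    change (x * l * x⁻¹) * v * (x * l * x⁻¹)⁻¹ ∈ _
    rcases mem_zp hw2 hv with rfl | rfl
    · have e : (x * l * x⁻¹) * 1 * (x * l * x⁻¹)⁻¹ = 1 := by group
      rw [e]; exact one_mem _
    · rw [h1, mul_inv_cancel_right]; exact mem_zpowers _
  have h1 := b1.commutator_eq_bot_of_local h.hG b2 (U := zpowers w)
    (isPGroup_of_isElementaryAbelian (zp_elem hw2)) (by rwa [Ne, zpowers_eq_bot]) (key x L hx)
    (key y L' hy)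
  rw [commutator_eq_bot_iff_le_centralizer] at h1
  exact (mem_centralizer_iff.1 (h1 ⟨a, ha, rfl⟩) _ ⟨b, hb, rfl⟩).symm

/-! ### Step 1: `W ≤ O₂(P)` -/

theorem W_le_Q (h : Hyp S P ε) (hd : Dat S P ε X Y N t r) (hp : PB (bau (S : Subgroup G)) L W W1 W0 q)
    {i₀ : ι} (hc : ∀ l ∈ L, l * rr ε (X i₀) (Y i₀) = rr ε (X i₀) (Y i₀) * l) : W ≤ o2 P := by
  choose Li hLi using fun i => hd.bas.exists_blk i
  intro w hw
  have hwB := hp.NB hw
  refine h.cS (ChoiceBase.bau_le _ hwB) ?_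
  have key : ∀ i, ∀ v ∈ N i, w * v = v * w := by
    intro i v hv
    by_cases hi : i = i₀
    · subst hi
      by_contra hne
      have hvV := hd.bas.NV i hv
      have h1 : w * v * w⁻¹ = rr ε (X i) (Y i) * v := by
        rcases bau_N hd hwB hv with h1 | h1
        · exact absurd (comm_of_conj h1) hne
        · exact h1
      have h2 : v * w * v⁻¹ * w⁻¹ = rr ε (X i) (Y i) := by
        have h3 : w * v⁻¹ * w⁻¹ = v⁻¹ * rr ε (X i) (Y i) := by
          have h4 : w * v⁻¹ * w⁻¹ = (w * v * w⁻¹)⁻¹ := by group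
          rw [h4, h1, mul_inv_rev, rr_inv h.ev]
        calc v * w * v⁻¹ * w⁻¹ = v * (w * v⁻¹ * w⁻¹) := by group
          _ = rr ε (X i) (Y i) := by rw [h3]; group
      have hvB := VB h hvV
      have h3 := hp.quad v hvB w hw
      rw [h2] at h3
      have h4 : v * w * v⁻¹ * w⁻¹ ∈ W0 := by rw [h2]; exact mem_W0 hp h3 hc
      have h5 := hp.cent v hvB ⟨w, hw, fun e => hne e.symm⟩ w hw h4
      exact hne (hp.N1c v hvB w h5).symm
    · obtain ⟨u, hu, n, hn, rfl⟩ := hp.exists_V hw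
      have hvV := hd.bas.NV i hv
      have h1 := comm_pb h hp (pb_i hd (hLi i)) (x := 1) (y := 1)
        (rr_ne_one h.ev h.three (hd.ne i₀)) (rr_sq h.ev _ _)
        (fun l hl => by
          have := hc l hl
          rw [inv_one, mul_one, one_mul]; exact this)
        (fun l hl => by
          have := LemmaK.OfIn.cent_d (hLi i) hd.bas hi l hl
          rw [inv_one, mul_one, one_mul]; exact this) hu
        (by rw [comm_i hd (hLi i)]; exact hv)
      simp only [inv_one, mul_one, one_mul] at h1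
      have h2 : n * v = v * n := h.ev.comm_mem (W0_le_V h hp hn) hvV
      calc u * n * v = u * (v * n) := by rw [mul_assoc, h2]
        _ = v * u * n := by rw [← mul_assoc, h1]
        _ = v * (u * n) := mul_assoc _ _ _
  have h1 : (⨆ i, N i) ≤ centralizer ({w} : Set G) := iSup_le fun i v hv =>
    mem_centralizer_singleton_iff.2 (key i v hv).symm
  intro v hv
  exact (mem_centralizer_singleton_iff.1 (h1 (V_le_iSup h hd hv))).symm

/-! ### Step 2, `q = 2` -/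

theorem W_le_V_two (h : Hyp S P ε) (hp : PB (bau (S : Subgroup G)) L W W1 W0 2) (hWQ : W ≤ o2 P) :
    W ≤ zl (S : Subgroup G) P := by
  intro u hu
  by_cases hu1 : u ∈ W1
  · exact W1_le_V h hp hu1
  have huu : u * u = 1 := by
    have := elem_sq hp.el u hu
    rwa [pow_two] at this
  by_cases hs : ∀ s ∈ o2 P, s * u = u * s
  · exact oz h (hWQ hu) huu hs
  push Not at hs
  obtain ⟨s₀, hs₀, hne⟩ := hs
  have hB : ∀ {s : G}, s ∈ o2 P → s ∈ bau (S : Subgroup G) := fun hs => QB h hs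
  have hzW := hp.quad s₀ (hB hs₀) u hu
  refine LemQ.mem h (v := s₀ * u * s₀⁻¹ * u⁻¹) (hWQ hu) huu (W1_le_V h hp hzW) ?_ fun s hs => ?_
  · intro e
    apply hne
    calc s₀ * u = (s₀ * u * s₀⁻¹ * u⁻¹) * u * s₀ := by group
      _ = u * s₀ := by rw [e, one_mul]
  · by_cases hsW : ∀ v ∈ W, s * v = v * s
    · left; rw [hsW u hu]; group
    · right
      have h2 : (bau (S : Subgroup G) ⊓ centralizer (W : Set G)).relIndex (bau (S : Subgroup G)) = 2 := by
        have h3 := CosetAct.Hyp.card_mul_relIndex' (H := bau (S : Subgroup G) ⊓ centralizer (W : Set G))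
          (K := bau (S : Subgroup G)) inf_le_left
        rw [hp.cardB] at h3
        exact Nat.eq_of_mul_eq_mul_left Nat.card_pos h3
      have hmem : ∀ {s : G}, (hs : s ∈ bau (S : Subgroup G)) →
          ((⟨s, hs⟩ : bau (S : Subgroup G)) ∈
            (bau (S : Subgroup G) ⊓ centralizer (W : Set G)).subgroupOf (bau (S : Subgroup G)) ↔
            ∀ v ∈ W, s * v = v * s) := by
        intro s hs
        rw [mem_subgroupOf, mem_inf, mem_centralizer_iff]
        exact ⟨fun h0 v hv => (h0.2 v hv).symm, fun h0 => ⟨hs, fun v hv => (h0 v hv).symm⟩⟩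
      have h3 : (⟨s₀⁻¹, inv_mem (hB hs₀)⟩ * ⟨s, hB hs⟩ : bau (S : Subgroup G)) ∈
          (bau (S : Subgroup G) ⊓ centralizer (W : Set G)).subgroupOf (bau (S : Subgroup G)) := by
        rw [Subgroup.mul_mem_iff_of_index_two h2]
        constructor
        · intro h0
          exfalso
          have h4 := (hmem _).1 h0 u hu
          apply hne
          calc s₀ * u = s₀ * (u * s₀⁻¹) * s₀ := by group
            _ = s₀ * (s₀⁻¹ * u) * s₀ := by rw [h4]
            _ = u * s₀ := by group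
        · intro h0
          exact absurd ((hmem _).1 h0) hsW
      have h4 := (hmem (mul_mem (inv_mem (hB hs₀)) (hB hs))).1 h3 u hu
      calc s * u * s⁻¹ = s₀ * ((s₀⁻¹ * s) * u) * (s₀⁻¹ * s)⁻¹ * s₀⁻¹ := by group
        _ = s₀ * (u * (s₀⁻¹ * s)) * (s₀⁻¹ * s)⁻¹ * s₀⁻¹ := by rw [h4]
        _ = s₀ * u * s₀⁻¹ * u⁻¹ * u := by group

/-! ### Step 3: `q = 2` -/

theorem q_eq_two (h : Hyp S P ε) (hd : Dat S P ε X Y N t r)
    (hp : PB (bau (S : Subgroup G)) L W W1 W0 q) (hWV : W ≤ zl (S : Subgroup G) P) : q = 2 := by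
  have hex : ∃ i, ∃ v ∈ W, t i * v ≠ v * t i := by
    by_contra hcon
    push Not at hcon
    obtain ⟨b, hb, v, hv, hne⟩ := hp.exists_b
    have h1 : SQ1.BauS.In.EE t (o2 P) ≤ centralizer ({v} : Set G) := by
      refine sup_le ?_ fun x hx => ?_
      · rw [closure_le]
        rintro _ ⟨i, rfl⟩
        exact mem_centralizer_singleton_iff.2 (hcon i v hv)
      · exact mem_centralizer_singleton_iff.2 (h.VcQ hx (hWV hv))
    exact hne (mem_centralizer_singleton_iff.1 (h1 (hd.bas.bau_EE hb)))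
  obtain ⟨i, v, hv, hne⟩ := hex
  have hti := hd.bas.t_bau i
  have hv1 : v ∉ W1 := fun h1 => hne (hp.N1c _ hti v h1)
  have hmv : ∀ y ∈ W, y ∉ W1 → t i * y * (t i)⁻¹ = rr ε (X i) (Y i) * y := by
    intro y hy hy1
    rcases hd.bas.t_comm i y (hWV hy) with h1 | h1
    · exfalso
      apply hy1
      refine hp.cent (t i) hti ⟨v, hv, hne⟩ y hy ?_
      rw [h1, mul_inv_cancel]
      exact one_mem _
    · exact h1
  have h1 : Nat.card W ≤ 2 * Nat.card W1 := by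
    refine card_le_two (c := v) fun y hy hy1 => ?_
    refine hp.cent (t i) hti ⟨v, hv, hne⟩ _ (mul_mem (inv_mem hv) hy) ?_
    have e : t i * (v⁻¹ * y) * (t i)⁻¹ * (v⁻¹ * y)⁻¹ =
        (t i * v * (t i)⁻¹)⁻¹ * (t i * y * (t i)⁻¹) * (v⁻¹ * y)⁻¹ := by group
    rw [e, hmv v hv hv1, hmv y hy hy1]
    have e2 : (rr ε (X i) (Y i) * v)⁻¹ * (rr ε (X i) (Y i) * y) * (v⁻¹ * y)⁻¹ = 1 := by group
    rw [e2]
    exact one_mem _
  have h2 := hp.card
  rw [h2, mul_comm] at h1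
  have h3 := Nat.le_of_mul_le_mul_right h1 Nat.card_pos
  have h4 := hp.one
  omega

/-! ### Step 4: `L ≤ N_G(V)` -/

theorem card_HH_pb (hp : PB (bau (S : Subgroup G)) L W W1 W0 2) :
    Nat.card (zj (S : Subgroup G)) ≤ 2 * Nat.card (HH S L) := by
  by_cases hle : zj (S : Subgroup G) ≤ HH S L
  · have := Subgroup.card_le_of_le hle
    omega
  obtain ⟨c, hcZ, hcH⟩ := Set.not_subset.1 hle
  replace hcZ : c ∈ zj (S : Subgroup G) := hcZ
  have hsplit : ∀ z ∈ zj (S : Subgroup G), z ∉ HH S L → ∃ z' ∈ HH S L, ∃ n ∈ W1, n ∉ W0 ∧ z = z' * n := by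
    intro z hz hzH
    rw [← ChoiceBase.zc_bau] at hz
    obtain ⟨z', hz', hz'L, n, hn, e⟩ := hp.Z_split hz
    have hz'H : z' ∈ HH S L := mem_HH.2 ⟨by rw [← ChoiceBase.zc_bau]; exact hz', hz'L⟩
    refine ⟨z', hz'H, n, hn, fun hn0 => hzH ?_, e⟩
    rw [e]
    exact mul_mem hz'H (mem_HH.2 ⟨W1_le hp hn, fun l hl => hp.N0c l hl n hn0⟩)
  refine card_le_two (c := c) fun y hy hyH => ?_
  obtain ⟨c', hc', n, hn, hn0, ec⟩ := hsplit c hcZ hcH
  obtain ⟨y', hy', n', hn', hn0', ey⟩ := hsplit y hy hyH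
  -- `n⁻¹ n' ∈ W0`
  have h1 : n⁻¹ * n' ∈ W0 := by
    by_contra hnn
    have h2 : 2 * Nat.card W0 < Nat.card W1 ∨ n⁻¹ * n' ∈ W0 := by
      right
      have h3 : W0.relIndex W1 = 2 := by
        have h4 := CosetAct.Hyp.card_mul_relIndex' hp.N01
        rw [hp.card1] at h4
        exact Nat.eq_of_mul_eq_mul_left Nat.card_pos h4
      have h4 : (⟨n⁻¹, inv_mem hn⟩ * ⟨n', hn'⟩ : W1) ∈ W0.subgroupOf W1 := by
        rw [Subgroup.mul_mem_iff_of_index_two h3, mem_subgroupOf, mem_subgroupOf]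
        exact ⟨fun h0 => absurd ((inv_mem_iff).1 h0) hn0, fun h0 => absurd h0 hn0'⟩
      exact h4
    rcases h2 with h2 | h2
    · rw [hp.card1] at h2; omega
    · exact hnn h2
  have hnZ := W1_le hp hn
  have e : c⁻¹ * y = (c'⁻¹ * y') * (n⁻¹ * n') := by
    rw [ec, ey, mul_inv_rev]
    have h2 := zj_comm (inv_mem hnZ) (mul_mem (inv_mem (mem_HH.1 hc').1) (mem_HH.1 hy').1)
    calc n⁻¹ * c'⁻¹ * (y' * n') = (n⁻¹ * (c'⁻¹ * y')) * n' := by group
      _ = ((c'⁻¹ * y') * n⁻¹) * n' := by rw [h2]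
      _ = _ := by group
  rw [e]
  exact mul_mem (mul_mem (inv_mem hc') hy') (mem_HH.2 ⟨W1_le hp (hp.N01 h1), fun l hl => hp.N0c l hl _ h1⟩)

theorem L_le_of_V (h : Hyp S P ε) (h3 : 3 ≤ m) (hd : Dat S P ε X Y N t r)
    (hp : PB (bau (S : Subgroup G)) L W W1 W0 2) (hWV : W ≤ zl (S : Subgroup G) P) :
    L ≤ normalizer (zl (S : Subgroup G) P : Set G) := by
  choose Li hLi using fun i => hd.bas.exists_blk i
  intro g hg
  -- `R = C_B(W)`
  have hR : ∀ x ∈ bau (S : Subgroup G), (∀ v ∈ W, x * v = v * x) → ∀ l ∈ L,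
      l * x * l⁻¹ ∈ bau (S : Subgroup G) ∧ ∀ v ∈ W, (l * x * l⁻¹) * v = v * (l * x * l⁻¹) := by
    intro x hx hxW l hl
    refine ⟨hp.cor l hl x hx hxW, fun v hv => ?_⟩
    have h1 : l⁻¹ * v * l ∈ W := by
      have := hp.Nn l⁻¹ (inv_mem hl) v hv
      rwa [inv_inv] at this
    have h2 := hxW _ h1
    calc l * x * l⁻¹ * v = l * (x * (l⁻¹ * v * l)) * l⁻¹ := by group
      _ = l * ((l⁻¹ * v * l) * x) * l⁻¹ := by rw [h2]
      _ = v * (l * x * l⁻¹) := by group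
  have hVR : ∀ v ∈ zl (S : Subgroup G) P, ∀ w ∈ W, v * w = w * v := fun v hv w hw =>
    h.ev.comm_mem hv (hWV hw)
  have hVgB : ∀ v ∈ zl (S : Subgroup G) P, g * v * g⁻¹ ∈ bau (S : Subgroup G) := fun v hv =>
    (hR v (VB h hv) (hVR v hv) g hg).1
  -- the modules commute
  have hcomm : ∀ a ∈ zl (S : Subgroup G) P, ∀ b ∈ zl (S : Subgroup G) P,
      (1 * a * 1⁻¹) * (g * b * g⁻¹) = (g * b * g⁻¹) * (1 * a * 1⁻¹) := by
    intro a ha b hb
    refine comm_all h hd (fun i j a ha b hb => ?_) ha hb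
    obtain ⟨y, ⟨⟨hy1, hy2⟩, hy3⟩, hy⟩ := exists_three h hd h3 (A := HH S L) (B := HH S (Li i))
      (C := HH S (Li j)) inf_le_left inf_le_left inf_le_left (card_HH_pb hp) (card_HH h hd (hLi i))
      (card_HH h hd (hLi j))
    have hy1' := mem_HH.1 hy1
    have hy2' := mem_HH.1 hy2
    have hy3' := mem_HH.1 hy3
    have hyy : y * y = 1 := h.ev.sq_mem (LemQ.zj_le h hy1'.1)
    refine comm_conj h hd (hLi i) (hLi j) hy hyy (fun l hl => ?_) (fun l hl => ?_) ha hb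
    · have := hy2'.2 l hl
      calc 1 * l * 1⁻¹ * y = l * y := by group
        _ = y * l := this
        _ = y * (1 * l * 1⁻¹) := by group
    · have h1 := hy3'.2 l hl
      have h2 := hy1'.2 g hg
      have h4 : g⁻¹ * y = y * g⁻¹ := by
        calc g⁻¹ * y = g⁻¹ * (y * g) * g⁻¹ := by group
          _ = g⁻¹ * (g * y) * g⁻¹ := by rw [h2]
          _ = y * g⁻¹ := by group
      calc g * l * g⁻¹ * y = g * l * (g⁻¹ * y) := by group
        _ = g * (l * y) * g⁻¹ := by rw [h4]; group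
        _ = (g * y) * l * g⁻¹ := by rw [h1]; group
        _ = y * (g * l * g⁻¹) := by rw [h2]; group
  refine LemN.main h (fun v hv => ?_) fun s hs v hv => ?_
  · refine h.cS (ChoiceBase.bau_le _ (hVgB v hv)) fun w hw => ?_
    have h1 := hcomm w hw v hv
    have e : (1 : G) * w * 1⁻¹ = w := by group
    rw [e] at h1
    exact h1.symm
  · -- `Q ≤ R^g`
    have hsW : ∀ w ∈ W, s * w = w * s := fun w hw => h.VcQ hs (hWV hw)
    have h1 := hR s (QB h hs) hsW g⁻¹ (inv_mem hg)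
    rw [inv_inv] at h1
    have h2 : g⁻¹ * s * g ∈ P := h.SP (ChoiceBase.bau_le _ h1.1)
    have h4 := h.Vn h2 hv
    rw [mem_cj]
    have e : g⁻¹ * (s * (g * v * g⁻¹) * s⁻¹) * g = (g⁻¹ * s * g) * v * (g⁻¹ * s * g)⁻¹ := by group
    rw [e]
    exact h4

end Cfsg.Agent.Omega.NSix.CaseJ.PBlock

end

section


/-!
# OMEGA N6, case `J(S) ≰ O₂(P)`: FF-blocks over `B = bau S` with `q > 2`

`hp : PB (bau S) L W W1 W0 q`, `q > 2`, `W ≤ O₂(P)`, `L` commutes with some `d i₀`.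

* `exists_tor` : some `h₀ ∈ N_L(B)` moves `Z_J`; it permutes the pairs;
* `exists_pp` : pairs `p ≠ p'` such that the transposition `(X p, X p')` centralises `C_{Z_J}(L)`, but not `W1`;
* `conj_mem` : for an exact offender for this transposition `W^a ≤ V W`;
* `W_le_V_big` : `W ≤ V`.
-/

set_option autoImplicit false
set_option linter.unusedSectionVars false

namespace Cfsg.Agent.Omega.NSix.CaseJ.PBlock

open Subgroup Cfsg Cfsg.Agent.PLocal.ThompsonJ Cfsg.Agent.ZN Cfsg.Agent.ZN.ChoiceBase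
open Cfsg.Agent.ZN.ChoiceSit Cfsg.Agent.PLocal.ElemAbSup
open Cfsg.Agent.Omega.MinPar
open Cfsg.Agent.Omega.S5.Def Cfsg.Agent.Omega.S5.Syl Cfsg.Agent.Omega.S5.Pair
open Cfsg.Agent.Omega.NSix.Base Cfsg.Agent.Omega.NSix.Basic
open Cfsg.Agent.Omega.SQ1.Bau (elem_comm elem_sq mem_sup_comm card_sup_comm Mv)
open Cfsg.Agent.Omega.LemmaK (Block WeakNormal)
open Cfsg.Agent.Omega.OM (PB)
open Cfsg.Agent.Omega.NSix.CaseJ.Base Cfsg.Agent.Omega.NSix.CaseJ.Exact
open Cfsg.Agent.Omega.NSix.CaseJ.LemQ Cfsg.Agent.Omega.NSix.CaseJ.Blk Cfsg.Agent.Omega.NSix.CaseJ.Norm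
open Cfsg.Agent.Omega.NSix.CaseJ.Fus

universe u

variable {G : Type u} [Group G] [Finite G] {S : Sylow 2 G} {P : Subgroup G} {m : ℕ}
  {ε : (Fin (2 ^ m + 1) → ZMod 2) → G} {ι : Type} {X Y : ι → Fin (2 ^ m + 1)} {N : ι → Subgroup G}
  {t r : ι → G} {L W W1 W0 : Subgroup G} {q : ℕ}

/-! ### Coordinates of `Z_J` -/

theorem zj_coord (h : Hyp S P ε) (hd : Dat S P ε X Y N t r) {x : Fin (2 ^ m + 1) → ZMod 2}
    (hx : ε x ∈ zj (S : Subgroup G)) (p : ι) : x (X p) = x (Y p) :=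
  (swap_comm_iff h.ev h.three (hd.ne p) (hd.tA p) x).1
    ((ChoiceBase.mem_zj.1 hx).2.2 (t p) (hd.bas.tJ p))

theorem rr_not_zj (h : Hyp S P ε) (hd : Dat S P ε X Y N t r) {p p' : ι} (hpp : p ≠ p') :
    rr ε (X p) (X p') ∉ zj (S : Subgroup G) := by
  intro h0
  rw [rr_eq h.ev] at h0
  have h1 := zj_coord h hd h0 p
  obtain ⟨d1, d2, d3, d4⟩ := hd.disj p p' hpp
  rw [Pi.add_apply, Pi.add_apply, Pi.single_eq_same, Pi.single_eq_of_ne d1,
    Pi.single_eq_of_ne (hd.ne p).symm, Pi.single_eq_of_ne d3, add_zero, add_zero] at h1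
  exact one_ne_zero h1

theorem pair_of_zj (h : Hyp S P ε) (hd : Dat S P ε X Y N t r) {a b : Fin (2 ^ m + 1)} (hab : a ≠ b)
    (hz : rr ε a b ∈ zj (S : Subgroup G)) : ∃ p, (a = X p ∧ b = Y p) ∨ (a = Y p ∧ b = X p) := by
  have key : ∀ {a b : Fin (2 ^ m + 1)}, a ≠ b → rr ε a b ∈ zj (S : Subgroup G) → a ≠ 0 →
      ∃ p, (a = X p ∧ b = Y p) ∨ (a = Y p ∧ b = X p) := by
    intro a b hab hz ha
    rw [rr_eq h.ev] at hz
    obtain ⟨p, h1 | h1⟩ := hd.cov a ha
    · refine ⟨p, Or.inl ⟨h1.symm, ?_⟩⟩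
      by_contra hb
      have h2 := zj_coord h hd hz p
      rw [Pi.add_apply, Pi.add_apply, h1, Pi.single_eq_same, Pi.single_eq_of_ne hab,
        Pi.single_eq_of_ne (by rw [← h1]; exact (hd.ne p).symm), Pi.single_eq_of_ne (Ne.symm hb),
        add_zero, add_zero] at h2
      exact one_ne_zero h2
    · refine ⟨p, Or.inr ⟨h1.symm, ?_⟩⟩
      by_contra hb
      have h2 := zj_coord h hd hz p
      rw [Pi.add_apply, Pi.add_apply, h1, Pi.single_eq_same, Pi.single_eq_of_ne hab,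
        Pi.single_eq_of_ne (by rw [← h1]; exact hd.ne p), Pi.single_eq_of_ne (Ne.symm hb),
        add_zero, add_zero] at h2
      exact zero_ne_one h2
  by_cases ha : a = 0
  · have hb : b ≠ 0 := fun h0 => hab (ha.trans h0.symm)
    rw [rr_symm h.ev] at hz
    obtain ⟨p, h1 | h1⟩ := key hab.symm hz hb
    · exact ⟨p, Or.inr ⟨h1.2, h1.1⟩⟩
    · exact ⟨p, Or.inl ⟨h1.2, h1.1⟩⟩
  · exact key hab hz ha

/-! ### The torus -/

theorem exists_tor (hp : PB (bau (S : Subgroup G)) L W W1 W0 q) (hq : 2 < q) :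
    ∃ g ∈ L, g ∈ normalizer ((bau (S : Subgroup G) : Subgroup G) : Set G) ∧
      ∃ z ∈ zj (S : Subgroup G), g * z ≠ z * g := by
  have h0 : 0 < Nat.card W0 := Nat.card_pos
  have hlt : 2 * Nat.card W0 < Nat.card W1 := by
    rw [hp.card1, mul_comm 2]
    exact Nat.mul_lt_mul_of_pos_left hq h0
  obtain ⟨z, hz, hz0⟩ : ∃ z ∈ W1, z ∉ W0 := by
    by_contra hcon
    push Not at hcon
    have := Subgroup.card_le_of_le (show W1 ≤ W0 from hcon)
    omega
  obtain ⟨y, hy, hy0, hzy⟩ : ∃ y ∈ W1, y ∉ W0 ∧ z⁻¹ * y ∉ W0 := by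
    by_contra hcon
    push Not at hcon
    have := card_le_two (A := W1) (C := W0) (c := z) hcon
    omega
  obtain ⟨g, hg, hgB, hgz⟩ := hp.tor z hz hz0 y hy hy0
  refine ⟨g, hg, hgB, z, W1_le hp hz, fun e => hzy ?_⟩
  have h1 : g * z * g⁻¹ = z := by rw [e]; group
  rw [h1] at hgz
  have h2 := inv_mem hgz
  have h3 : (z * y⁻¹)⁻¹ = z⁻¹ * y := by
    have h4 : z⁻¹ * y = y * z⁻¹ := hp.comm (inv_mem (hp.N1N hz)) (hp.N1N hy)
    rw [h4]; group
  rwa [h3] at h2

/-- A permutation fixing a vector modulo complements fixes it. -/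
theorem comp_eq (hm : 1 ≤ m) (h : EvenSet (2 ^ m + 1) (zl (S : Subgroup G) P) P ε)
    {x : Fin (2 ^ m + 1) → ZMod 2} {σ : Equiv.Perm (Fin (2 ^ m + 1))} (he : ε (x ∘ σ.symm) = ε x) :
    x ∘ σ.symm = x := by
  rcases h.eq_iff.1 he with h1 | h1
  · exact h1
  · exfalso
    have h2 : ∑ i, (x ∘ σ.symm) i = ∑ i, x i := Equiv.sum_comp σ.symm x
    rw [h1] at h2
    simp only [Pi.add_apply, Pi.one_apply, Finset.sum_add_distrib, Finset.sum_const, Finset.card_univ,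
      Fintype.card_fin, nsmul_eq_mul, mul_one] at h2
    rw [S5.Of.cast_odd hm, add_eq_left] at h2
    exact one_ne_zero h2

/-- An element normalising `B` permutes the pairs. -/
theorem norm_pair (h : Hyp S P ε) (h3 : 3 ≤ m) (hd : Dat S P ε X Y N t r) {g : G}
    (hg : g ∈ normalizer ((bau (S : Subgroup G) : Subgroup G) : Set G))
    {σ : Equiv.Perm (Fin (2 ^ m + 1))} (hσ : Acts ε g σ) (p : ι) :
    ∃ p', (σ (X p) = X p' ∧ σ (Y p) = Y p') ∨ (σ (X p) = Y p' ∧ σ (Y p) = X p') := by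
  refine pair_of_zj h hd (σ.injective.ne (hd.ne p)) ?_
  rw [← rr_conj hσ]
  have h1 := normalizer_le_of_cj (F := zj) zj_cj (bau (S : Subgroup G)) hg
  rw [ChoiceBase.zj_bau] at h1
  exact (mem_normalizer_iff.1 h1 _).1 (hd.bas.d_mem_Z p)

/-- Two pairs such that `(X p, X p')` centralises `C_{Z_J}(L)`. -/
theorem exists_pp (h : Hyp S P ε) (h3 : 3 ≤ m) (hd : Dat S P ε X Y N t r)
    (hp : PB (bau (S : Subgroup G)) L W W1 W0 q) (hq : 2 < q) :
    ∃ p p', p ≠ p' ∧ ∀ x : Fin (2 ^ m + 1) → ZMod 2, ε x ∈ HH S L → x (X p) = x (X p') := by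
  have hm : 1 ≤ m := by omega
  obtain ⟨g, hgL, hgB, z, hz, hgz⟩ := exists_tor hp hq
  have hM := Cfsg.Agent.Omega.NSix.Norm.evenSet' h.hm S h.ev h.SP h.fix0
  obtain ⟨σ, hσ⟩ := hM.perm g (bau_le h h3 hgB)
  have hpair := norm_pair h h3 hd hgB hσ
  -- some pair is moved
  have hmv : ∃ p p', p ≠ p' ∧ (σ (X p) = X p' ∨ σ (X p) = Y p') := by
    by_contra hcon
    push Not at hcon
    have hfix : ∀ p, (σ (X p) = X p ∧ σ (Y p) = Y p) ∨ (σ (X p) = Y p ∧ σ (Y p) = X p) := by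
      intro p
      obtain ⟨p', h1⟩ := hpair p
      have : p = p' := by
        by_contra hne
        rcases h1 with h1 | h1
        · exact (hcon p p' hne).1 h1.1
        · exact (hcon p p' hne).2 h1.1
      subst this
      exact h1
    apply hgz
    obtain ⟨x, rfl⟩ := h.ev.surj z (LemQ.zj_le h hz)
    have hxx : x ∘ σ = x := by
      funext y
      rw [Function.comp_apply]
      by_cases hy : y = 0
      · subst hy
        by_cases h0 : σ 0 = 0
        · rw [h0]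
        · exfalso
          obtain ⟨p, h1 | h1⟩ := hd.cov _ h0
          · rcases hfix p with h2 | h2
            · rw [← h2.1] at h1
              exact hd.X0 p (σ.injective h1)
            · rw [← h2.2] at h1
              exact hd.Y0 p (σ.injective h1)
          · rcases hfix p with h2 | h2
            · rw [← h2.2] at h1
              exact hd.Y0 p (σ.injective h1)
            · rw [← h2.1] at h1
              exact hd.X0 p (σ.injective h1)
      · have hc := zj_coord h hd hz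
        obtain ⟨p, h1 | h1⟩ := hd.cov y hy
        · rw [← h1]
          rcases hfix p with h2 | h2
          · rw [h2.1]
          · rw [h2.1, hc]
        · rw [← h1]
          rcases hfix p with h2 | h2
          · rw [h2.2]
          · rw [h2.2, hc]
    have h1 := hσ x
    have h2 : x ∘ σ.symm = x := by
      funext y
      have := congrFun hxx (σ.symm y)
      rw [Function.comp_apply, Equiv.apply_symm_apply] at this
      exact this.symm
    rw [h2] at h1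
    exact LemQ.comm_of_conj h1
  obtain ⟨p, p', hpp, h1⟩ := hmv
  refine ⟨p, p', hpp, fun x hx => ?_⟩
  have hx' := mem_HH.1 hx
  have h2 := hσ x
  have h4 : g * ε x * g⁻¹ = ε x := by rw [hx'.2 g hgL]; group
  rw [h4] at h2
  have h5 := comp_eq hm h.ev h2.symm
  have h6 : ∀ y, x (σ y) = x y := fun y => by
    have := congrFun h5 (σ y)
    rw [Function.comp_apply, Equiv.symm_apply_apply] at this
    exact this.symm
  rw [← h6 (X p)]
  rcases h1 with h1 | h1
  · rw [h1]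
  · rw [h1, zj_coord h hd hx'.1]

/-! ### Exact offenders -/

section big

variable (h : Hyp S P ε) (hp : PB (bau (S : Subgroup G)) L W W1 W0 q) {i j : Fin (2 ^ m + 1)}
  {A : Subgroup G} (hA : Ex P ε i j A) (hij : i ≠ j) (hrr : rr ε i j ∉ zj (S : Subgroup G)) {a : G}
  (ha : a ∈ A) (ha' : Acts ε a (Equiv.swap i j)) (ha0 : ∀ n ∈ W0, a * n = n * a)
  (hmv : ∃ n ∈ W1, a * n ≠ n * a) (hWQ : W ≤ o2 P)
  (hcW : ∀ u ∈ W, ∀ v ∈ W, u * (a * v * a⁻¹) = (a * v * a⁻¹) * u)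

include h hp hA hrr ha in
theorem fix_e {e : G} (he : e ∈ W1) (he' : a * e * a⁻¹ ∈ zj (S : Subgroup G)) : a * e = e * a := by
  rcases hA.comm_V h ha (W1_le_V h hp he) with h1 | h1
  · exact LemQ.comm_of_conj h1
  · exfalso
    apply hrr
    have h2 := mul_mem (inv_mem (W1_le hp he)) he'
    rw [h1, inv_mul_cancel_left] at h2
    exact h2

include hp ha0 in
/-- If the values of a homomorphism of rank `q` avoiding `W0` are fixed by `a`, then `W1` is. -/
theorem fix_W1 {A' : Type*} [Group A'] [Finite A'] (φ : A' →* W1)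
    (hker : Nat.card φ.ker * q ≤ Nat.card A') (h0 : ∀ b, (φ b : G) ∈ W0 → φ b = 1)
    (hfix : ∀ b, a * (φ b : G) = φ b * a) : ∀ n ∈ W1, a * n = n * a := by
  set E : Subgroup G := φ.range.map W1.subtype with hE
  have hEW : E ≤ W1 := by
    rintro _ ⟨x, -, rfl⟩
    exact x.2
  have hcE : q ≤ Nat.card E := by
    have h1 : Nat.card E = Nat.card φ.range := Subgroup.card_map_of_injective W1.subtype_injective
    have h2 : Nat.card A' = Nat.card φ.ker * Nat.card φ.range := by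
      rw [← φ.ker.card_mul_index, Subgroup.index_ker]
    rw [h1]
    rw [h2] at hker
    exact Nat.le_of_mul_le_mul_left hker Nat.card_pos
  have hinf : E ⊓ W0 = ⊥ := by
    rw [eq_bot_iff]
    rintro _ ⟨⟨x, ⟨b, rfl⟩, rfl⟩, hx0⟩
    have h1 := h0 b hx0
    change ((φ b : W1) : G) = 1
    rw [h1]; rfl
  have hcm : ∀ x ∈ E, ∀ y ∈ W0, x * y = y * x := fun x hx y hy =>
    hp.comm (hp.N1N (hEW hx)) (hp.N1N (hp.N01 hy))
  have h1 := card_sup_comm hcm
  rw [hinf, Subgroup.card_bot, mul_one] at h1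
  have h2 : E ⊔ W0 = W1 := by
    refine Subgroup.eq_of_le_of_card_ge (sup_le hEW hp.N01) ?_
    rw [h1, hp.card1, mul_comm]
    exact Nat.mul_le_mul_right _ hcE
  have h3 : E ⊔ W0 ≤ centralizer ({a} : Set G) := by
    refine sup_le ?_ fun n hn => mem_centralizer_singleton_iff.2 (ha0 n hn).symm
    rintro _ ⟨x, ⟨b, rfl⟩, rfl⟩
    exact mem_centralizer_singleton_iff.2 (hfix b).symm
  rw [h2] at h3
  exact fun n hn => (mem_centralizer_singleton_iff.1 (h3 hn)).symm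

include h hp hA hij hrr ha ha' ha0 hmv hWQ hcW

/-- `W^a ≤ V W`. -/
theorem conj_mem {u : G} (hu : u ∈ W) :
    ∃ v ∈ zl (S : Subgroup G) P, ∃ w ∈ W, a * u * a⁻¹ = v * w := by
  classical
  obtain ⟨V, hV⟩ : ∃ V, V = zl (S : Subgroup G) P := ⟨_, rfl⟩
  have haa := hA.sq ha
  have hai : a⁻¹ = a := inv_eq_of_mul_eq_one_left haa
  have haP := hA.AP ha
  have hVQ : V ≤ o2 P := hV ▸ h.VQ
  have hVc : ∀ {s v : G}, s ∈ o2 P → v ∈ V → s * v = v * s := fun hs hv => h.VcQ hs (hV ▸ hv)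
  have hVaV : ∀ v ∈ V, a * v * a⁻¹ ∈ V := fun v hv => hV ▸ h.Vn haP (hV ▸ hv)
  have hA0Q : A ⊓ centralizer (V : Set G) ≤ o2 P := hV ▸ (hA.A0_le h hij).1.trans (ChoiceBase.jj_le _)
  set A0 := A ⊓ centralizer (V : Set G) with hA0
  have hWa : cj a W ≤ o2 P := by
    rintro _ ⟨w, hw, rfl⟩
    exact h.Qn haP (hWQ hw)
  have hVW : ∀ v ∈ V, ∀ w ∈ W, v * w = w * v := fun v hv w hw => (hVc (hWQ hw) hv).symm
  set M₁ := V ⊔ W with hM₁
  have hM₁e : IsElementaryAbelian 2 M₁ := sup_elem (hV ▸ V_elem h) hp.el hVW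
  have hM₁a : ∀ x ∈ M₁, ∀ y ∈ cj a W, x * y = y * x := by
    have h1 : M₁ ≤ centralizer (cj a W : Set G) := by
      refine sup_le (fun v hv => mem_centralizer_iff.2 fun y hy => hVc (hWa hy) hv) fun w hw =>
        mem_centralizer_iff.2 ?_
      rintro _ ⟨v, hv, rfl⟩
      exact (hcW w hw v hv).symm
    exact fun x hx y hy => (mem_centralizer_iff.1 (h1 hx) y hy).symm
  set X := M₁ ⊔ cj a W with hX
  have hXe : IsElementaryAbelian 2 X := sup_elem hM₁e (isElementaryAbelian_cj a hp.el) hM₁a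
  have hVX : V ≤ X := le_sup_left.trans le_sup_left
  have haW : a * u * a⁻¹ ∈ cj a W := ⟨u, hu, rfl⟩
  -- the conclusion from `a u a⁻¹ ∈ M₁`
  have hconcl : a * u * a⁻¹ ∈ M₁ → ∃ v ∈ zl (S : Subgroup G) P, ∃ w ∈ W, a * u * a⁻¹ = v * w := by
    intro h1
    obtain ⟨v, hv, w, hw, e⟩ := mem_sup_comm hVW h1
    exact ⟨v, hV ▸ hv, w, hw, e⟩
  by_cases hcase : ∀ b ∈ A0, ∀ w ∈ W, b * w = w * b
  · -- `A` is a transvection on `X`
    apply hconcl
    have hAX : ∀ b ∈ A0, ∀ x ∈ X, b * x = x * b := by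
      intro b hb x hx
      have h1 : X ≤ centralizer ({b} : Set G) := by
        refine sup_le (sup_le (fun v hv => mem_centralizer_singleton_iff.2 ?_)
          fun w hw => mem_centralizer_singleton_iff.2 (hcase b hb w hw).symm) ?_
        · exact (hVc (hA0Q hb) hv).symm
        · rintro _ ⟨w, hw, rfl⟩
          rw [mem_centralizer_singleton_iff]
          have h2 : a * b = b * a := elem_comm hA.elem a ha b hb.1
          have h3 := hcase b hb w hw
          change a * w * a⁻¹ * b = b * (a * w * a⁻¹)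
          have h4 : a⁻¹ * b = b * a⁻¹ := by rw [hai]; exact h2
          calc a * w * a⁻¹ * b = a * w * (a⁻¹ * b) := by group
            _ = a * (w * b) * a⁻¹ := by rw [h4]; group
            _ = (a * b) * w * a⁻¹ := by rw [← h3]; group
            _ = b * (a * w * a⁻¹) := by rw [h2]; group
      exact (mem_centralizer_singleton_iff.1 (h1 hx)).symm
    have huX : u ∈ X := mem_sup_left (mem_sup_right hu)
    rcases hA.transv h hij hXe (hV ▸ hVX) (by rw [← hV]; exact hAX) ha huX with h1 | h1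
    · rw [h1]; exact mem_sup_right hu
    · rw [h1]
      exact mul_mem (mem_sup_right hu) (mem_sup_left (hV ▸ rr_mem h.ev i j))
  push Not at hcase
  obtain ⟨b₀, hb₀, w₀, hw₀, hne⟩ := hcase
  have hA0B : A0 ≤ bau (S : Subgroup G) := hA0Q.trans (QB h)
  have hb₀B := hA0B hb₀
  have hb₀c : ∀ w ∈ W, b₀ * w = w * b₀ → w ∈ W1 := by
    intro w hw hc
    refine hp.cent b₀ hb₀B ⟨w₀, hw₀, hne⟩ w hw ?_
    have e : b₀ * w * b₀⁻¹ * w⁻¹ = 1 := by rw [hc]; group
    rw [e]; exact one_mem _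
  have hW1V : W1 ≤ V := hV ▸ W1_le_V h hp
  have hVW1 : V ⊓ W = W1 := by
    apply le_antisymm
    · rintro v ⟨hv, hw⟩
      exact hb₀c v hw (hVc (hA0Q hb₀) hv)
    · exact le_inf hW1V hp.N1N
  have hcM₁ : Nat.card M₁ = Nat.card V * q := by
    have h1 := card_sup_comm hVW
    rw [hVW1, hp.card, ← mul_assoc] at h1
    have h2 : Nat.card M₁ * Nat.card W1 = (Nat.card V * q) * Nat.card W1 := by
      rw [hM₁, h1]; ring
    exact Nat.eq_of_mul_eq_mul_right Nat.card_pos h2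
  -- centralisers in `A`
  set K₀ := A0 ⊓ centralizer (W : Set G) with hK₀
  have hcA : Nat.card A = 2 * Nat.card A0 := by
    have := hA.card_A0 h hij
    rwa [← hV] at this
  have hK₀X : K₀ ≤ A ⊓ centralizer (X : Set G) := by
    rintro b ⟨hb, hbW⟩
    refine ⟨hb.1, ?_⟩
    have hbW' := mem_centralizer_iff.1 hbW
    have h1 : X ≤ centralizer ({b} : Set G) := by
      refine sup_le (sup_le (fun v hv => mem_centralizer_singleton_iff.2 ?_)
        fun w hw => mem_centralizer_singleton_iff.2 (hbW' w hw)) ?_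
      · exact (hVc (hA0Q hb) hv).symm
      · rintro _ ⟨w, hw, rfl⟩
        rw [mem_centralizer_singleton_iff]
        have h2 : a * b = b * a := elem_comm hA.elem a ha b hb.1
        have h3 := hbW' w hw
        change a * w * a⁻¹ * b = b * (a * w * a⁻¹)
        have h4 : a⁻¹ * b = b * a⁻¹ := by rw [hai]; exact h2
        calc a * w * a⁻¹ * b = a * w * (a⁻¹ * b) := by group
          _ = a * (w * b) * a⁻¹ := by rw [h4]; group
          _ = (a * b) * w * a⁻¹ := by rw [h3]; group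
          _ = b * (a * w * a⁻¹) := by rw [h2]; group
    exact mem_centralizer_iff.2 fun x hx => mem_centralizer_singleton_iff.1 (h1 hx)
  have hAq : Nat.card A0 ≤ q * Nat.card K₀ := by
    -- `|A0 : A0 ∩ C_B(W)| ≤ |B : C_B(W)|`
    set C := bau (S : Subgroup G) ⊓ centralizer (W : Set G) with hC
    have h1 : C.relIndex (bau (S : Subgroup G)) = q := by
      have h3 := CosetAct.Hyp.card_mul_relIndex' (H := C) (K := bau (S : Subgroup G)) inf_le_left
      rw [hp.cardB] at h3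
      exact Nat.eq_of_mul_eq_mul_left Nat.card_pos h3
    have h2 : C ⊓ A0 = K₀ := by
      apply le_antisymm
      · exact fun x hx => ⟨hx.2, hx.1.2⟩
      · exact fun x hx => ⟨⟨hA0B hx.1, hx.2⟩, hx.1⟩
    have h3 := CosetAct.Hyp.card_mul_relIndex' (H := C ⊓ A0) (K := A0) inf_le_right
    rw [inf_relIndex_right, h2] at h3
    have h4 : C.relIndex A0 ≤ C.relIndex (bau (S : Subgroup G)) := by
      refine Subgroup.relIndex_le_of_le_right hA0B ?_
      rw [h1]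
      have := hp.one
      omega
    rw [h1] at h4
    rw [← h3, mul_comm]
    exact Nat.mul_le_mul_right _ h4
  set CX := X ⊓ centralizer (A0 : Set G) with hCX
  have hC2 : 2 * Nat.card ↥(X ⊓ centralizer (A : Set G)) ≤ Nat.card CX := by
    refine two_mul_card_le (inf_le_inf_left _ (centralizer_le (by exact_mod_cast inf_le_left)))
      fun hle => ?_
    have h1 : rr ε i j * ε (Pi.single i 1) ∈ V := hV ▸ mul_mem (rr_mem h.ev i j) (h.ev.mem _)
    have hvV : ε (Pi.single i 1) ∈ V := hV ▸ h.ev.mem _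
    have h2 : ε (Pi.single i 1) ∈ CX := ⟨hVX hvV, mem_centralizer_iff.2 fun b hb => hVc (hA0Q hb) hvV⟩
    have h4 := mem_centralizer_iff.1 (hle h2).2 a ha
    have h5 := (swap_comm_iff h.ev h.three hij ha' (Pi.single i 1)).1 h4
    rw [Pi.single_eq_same, Pi.single_eq_of_ne hij.symm] at h5
    exact one_ne_zero h5
  have hcount := count hA.elem hXe hA.card
  have hI : Nat.card X * Nat.card K₀ ≤ Nat.card A0 * Nat.card CX := by
    calc Nat.card X * Nat.card K₀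
        ≤ Nat.card X * Nat.card ↥(A ⊓ centralizer (X : Set G)) :=
          Nat.mul_le_mul_left _ (Subgroup.card_le_of_le hK₀X)
      _ ≤ Nat.card A * Nat.card ↥(X ⊓ centralizer (A : Set G)) := hcount
      _ = Nat.card A0 * (2 * Nat.card ↥(X ⊓ centralizer (A : Set G))) := by rw [hcA]; ring
      _ ≤ Nat.card A0 * Nat.card CX := Nat.mul_le_mul_left _ hC2
  have hCXM : CX ⊓ M₁ ≤ V := by
    rintro x ⟨hx, hxM⟩
    obtain ⟨v, hv, w, hw, rfl⟩ := mem_sup_comm hVW hxM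
    have h1 := mem_centralizer_iff.1 hx.2 b₀ hb₀
    have h2 : b₀ * v = v * b₀ := hVc (hA0Q hb₀) hv
    have h3 : b₀ * w = w * b₀ := by
      have h4 : v * (b₀ * w) = v * (w * b₀) := by
        calc v * (b₀ * w) = (b₀ * v) * w := by rw [h2]; group
          _ = b₀ * (v * w) := by group
          _ = v * w * b₀ := h1
          _ = v * (w * b₀) := by group
      exact mul_left_cancel h4
    exact mul_mem hv (hW1V (hb₀c w hw h3))
  have hII : Nat.card CX * q ≤ Nat.card X := by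
    have hcm : ∀ x ∈ CX, ∀ y ∈ M₁, x * y = y * x := fun x hx y hy =>
      elem_comm hXe x hx.1 y (mem_sup_left hy)
    have h1 := card_sup_comm hcm
    have h2 : Nat.card ↥(CX ⊔ M₁) ≤ Nat.card X := Subgroup.card_le_of_le (sup_le inf_le_left le_sup_left)
    have h3 : Nat.card ↥(CX ⊓ M₁) ≤ Nat.card V := Subgroup.card_le_of_le hCXM
    rw [hcM₁] at h1
    have h4 : (Nat.card CX * q) * Nat.card V ≤ Nat.card X * Nat.card V := by
      calc (Nat.card CX * q) * Nat.card V = Nat.card CX * (Nat.card V * q) := by ring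
        _ = Nat.card ↥(CX ⊔ M₁) * Nat.card ↥(CX ⊓ M₁) := h1.symm
        _ ≤ Nat.card X * Nat.card V := Nat.mul_le_mul h2 h3
    exact Nat.le_of_mul_le_mul_right h4 Nat.card_pos
  have hIII : Nat.card K₀ * q ≤ Nat.card A0 := by
    have h1 : (Nat.card K₀ * q) * Nat.card X ≤ Nat.card A0 * Nat.card X := by
      calc (Nat.card K₀ * q) * Nat.card X = (Nat.card X * Nat.card K₀) * q := by ring
        _ ≤ (Nat.card A0 * Nat.card CX) * q := Nat.mul_le_mul_right _ hI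
        _ = Nat.card A0 * (Nat.card CX * q) := by ring
        _ ≤ Nat.card A0 * Nat.card X := Nat.mul_le_mul_left _ hII
    exact Nat.le_of_mul_le_mul_right h1 Nat.card_pos
  -- `C_X(A0) ≤ V`
  have hCXV : CX ≤ V := by
    rintro x ⟨hx, hxc⟩
    obtain ⟨y, hy, u', hu', rfl⟩ := mem_sup_comm hM₁a hx
    obtain ⟨v, hv, w, hw, rfl⟩ := mem_sup_comm hVW hy
    obtain ⟨s, hs, rfl⟩ := hu'
    change v * w * (a * s * a⁻¹) ∈ V
    replace hxc : ∀ b ∈ A0, b * (v * w * (a * s * a⁻¹)) = v * w * (a * s * a⁻¹) * b :=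
      mem_centralizer_iff.1 hxc
    have hab : ∀ b ∈ A0, a * b * a⁻¹ = b := fun b hb => by
      rw [elem_comm hA.elem a ha b hb.1]; group
    -- the commutators
    have hαβ : ∀ b ∈ A0, (b * w * b⁻¹ * w⁻¹) * (a * (b * s * b⁻¹ * s⁻¹) * a⁻¹) = 1 := by
      intro b hb
      have h1 : b * v = v * b := hVc (hA0Q hb) hv
      have h2 := hxc b hb
      have e1 : a * (b * s * b⁻¹) * a⁻¹ = b * (a * s * a⁻¹) * b⁻¹ := by
        calc a * (b * s * b⁻¹) * a⁻¹ = (a * b * a⁻¹) * (a * s * a⁻¹) * (a * b * a⁻¹)⁻¹ := by group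
          _ = _ := by rw [hab b hb]
      have h4 : (b * w * b⁻¹) * (a * (b * s * b⁻¹) * a⁻¹) = w * (a * s * a⁻¹) := by
        rw [e1]
        have h5 : v * ((b * w * b⁻¹) * (b * (a * s * a⁻¹) * b⁻¹)) = v * (w * (a * s * a⁻¹)) := by
          calc v * ((b * w * b⁻¹) * (b * (a * s * a⁻¹) * b⁻¹))
              = (v * b) * w * (a * s * a⁻¹) * b⁻¹ := by group
            _ = b * (v * w * (a * s * a⁻¹)) * b⁻¹ := by rw [← h1]; group
            _ = v * (w * (a * s * a⁻¹)) := by rw [h2]; group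
        exact mul_left_cancel h5
      have hbw : b * w * b⁻¹ ∈ W := hp.Nn b (hp.BL (hA0B hb)) w hw
      have h6 := hcW w hw s hs
      calc (b * w * b⁻¹ * w⁻¹) * (a * (b * s * b⁻¹ * s⁻¹) * a⁻¹)
          = b * w * b⁻¹ * (w⁻¹ * (a * (b * s * b⁻¹) * a⁻¹)) * (a * s * a⁻¹)⁻¹ := by group
        _ = b * w * b⁻¹ * ((a * (b * s * b⁻¹) * a⁻¹) * w⁻¹) * (a * s * a⁻¹)⁻¹ := by
          rw [hcW _ (inv_mem hw) _ (hp.Nn b (hp.BL (hA0B hb)) s hs)]
        _ = ((b * w * b⁻¹) * (a * (b * s * b⁻¹) * a⁻¹)) * w⁻¹ * (a * s * a⁻¹)⁻¹ := by group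
        _ = (w * (a * s * a⁻¹)) * w⁻¹ * (a * s * a⁻¹)⁻¹ := by rw [h4]
        _ = 1 := by rw [h6]; group
    by_cases hw1 : w ∈ W1
    · -- then `s ∈ W1`
      have h1 := hαβ b₀ hb₀
      have h2 : b₀ * w * b₀⁻¹ * w⁻¹ = 1 := by rw [hp.N1c b₀ hb₀B w hw1]; group
      rw [h2, one_mul] at h1
      have h4 : b₀ * s * b₀⁻¹ * s⁻¹ = 1 := by
        calc b₀ * s * b₀⁻¹ * s⁻¹ = a⁻¹ * (a * (b₀ * s * b₀⁻¹ * s⁻¹) * a⁻¹) * a := by group
          _ = 1 := by rw [h1]; group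
      have h5 : s ∈ W1 := by
        refine hp.cent b₀ hb₀B ⟨w₀, hw₀, hne⟩ s hs ?_
        rw [h4]; exact one_mem _
      exact mul_mem (mul_mem hv (hW1V hw1)) (hVaV s (hW1V h5))
    · exfalso
      -- all `[b, w]` are fixed by `a`
      have hαW : ∀ b ∈ A0, b * w * b⁻¹ * w⁻¹ ∈ W1 := fun b hb => hp.quad b (hA0B hb) w hw
      have hfix : ∀ b ∈ A0, a * (b * w * b⁻¹ * w⁻¹) = (b * w * b⁻¹ * w⁻¹) * a := by
        intro b hb
        refine fix_e h hp hA hrr ha (hαW b hb) ?_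
        have h1 := hαβ b hb
        have h2 : b * w * b⁻¹ * w⁻¹ = (a * (b * s * b⁻¹ * s⁻¹) * a⁻¹)⁻¹ :=
          eq_inv_of_mul_eq_one_left h1
        have h4 : a * (b * w * b⁻¹ * w⁻¹) * a⁻¹ = (b * s * b⁻¹ * s⁻¹)⁻¹ := by
          rw [h2]
          calc a * (a * (b * s * b⁻¹ * s⁻¹) * a⁻¹)⁻¹ * a⁻¹
              = (a * a) * (b * s * b⁻¹ * s⁻¹)⁻¹ * (a * a)⁻¹ := by group
            _ = _ := by rw [haa]; group
        rw [h4]
        exact W1_le hp (inv_mem (hp.quad b (hA0B hb) s hs))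
      let φ : ↥A0 →* ↥W1 := MonoidHom.mk' (fun b => ⟨(b : G) * w * (b : G)⁻¹ * w⁻¹, hαW b b.2⟩) (by
        intro b b'
        apply Subtype.ext
        show (b : G) * b' * w * ((b : G) * b')⁻¹ * w⁻¹ =
          (b : G) * w * (b : G)⁻¹ * w⁻¹ * ((b' : G) * w * (b' : G)⁻¹ * w⁻¹)
        have h1 := hp.N1c b (hA0B b.2) _ (hαW b' b'.2)
        have h2 := hp.comm (hp.N1N (hαW b b.2)) (hp.N1N (hαW b' b'.2))
        calc (b : G) * b' * w * ((b : G) * b')⁻¹ * w⁻¹
            = ((b : G) * ((b' : G) * w * (b' : G)⁻¹ * w⁻¹)) * w * (b : G)⁻¹ * w⁻¹ := by group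
          _ = ((b' : G) * w * (b' : G)⁻¹ * w⁻¹) * ((b : G) * w * (b : G)⁻¹ * w⁻¹) := by rw [h1]; group
          _ = _ := h2.symm)
      have hφ : ∀ b, (φ b : G) = (b : G) * w * (b : G)⁻¹ * w⁻¹ := fun b => rfl
      have hcen : ∀ b : ↥A0, (φ b : G) ∈ W0 → ∀ v ∈ W, (b : G) * v = v * b := by
        intro b hb
        by_contra hcon
        push Not at hcon
        exact hw1 (hp.cent b (hA0B b.2) hcon w hw hb)
      obtain ⟨n, hn, hn'⟩ := hmv
      refine hn' (fix_W1 hp ha0 φ ?_ (fun b hb => ?_) (fun b => hfix b b.2) n hn)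
      · refine le_trans (Nat.mul_le_mul_right _ ?_) hIII
        refine Nat.card_le_card_of_injective (fun b : φ.ker => (⟨(b : ↥A0), ⟨(b : ↥A0).2,
          mem_centralizer_iff.2 fun v hv => (hcen b ?_ v hv).symm⟩⟩ : ↥K₀)) ?_
        · have h1 : φ (b : ↥A0) = 1 := b.2
          rw [h1]; exact one_mem _
        · intro b b' hbb
          exact Subtype.ext (Subtype.ext (congrArg (fun x : ↥K₀ => (x : G)) hbb))
      · have h1 := hcen b hb w hw
        apply Subtype.ext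
        rw [hφ, h1]
        show w * (b : G) * (b : G)⁻¹ * w⁻¹ = 1
        group
  -- so `X = M₁`
  have hXM : X = M₁ := by
    refine (Subgroup.eq_of_le_of_card_ge le_sup_left ?_).symm
    rw [hcM₁]
    have h1 : Nat.card CX ≤ Nat.card V := Subgroup.card_le_of_le hCXV
    have h2 : Nat.card X * Nat.card K₀ ≤ (Nat.card V * q) * Nat.card K₀ := by
      calc Nat.card X * Nat.card K₀ ≤ Nat.card A0 * Nat.card CX := hI
        _ ≤ (q * Nat.card K₀) * Nat.card V := Nat.mul_le_mul hAq h1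
        _ = _ := by ring
    exact Nat.le_of_mul_le_mul_right h2 Nat.card_pos
  apply hconcl
  rw [← hXM]
  exact mem_sup_right haW

/-- `W ≤ V`. -/
theorem W_le_V_of : W ≤ zl (S : Subgroup G) P := by
  have haP := hA.AP ha
  by_contra hnot
  have hex : ∃ s ∈ o2 P, ∃ w ∈ W, s * w ≠ w * s := by
    by_contra hcon
    push Not at hcon
    apply hnot
    intro w hw
    refine oz h (hWQ hw) ?_ fun s hs => hcon s hs w hw
    have := elem_sq hp.el w hw
    rwa [pow_two] at this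
  obtain ⟨s, hs, w₀, hw₀, hne⟩ := hex
  have hsB := QB h hs
  have hψW : ∀ w ∈ W, s * w * s⁻¹ * w⁻¹ ∈ W1 := fun w hw => hp.quad s hsB w hw
  have hWc : ∀ {v w : G}, v ∈ W → w ∈ W → v * w = w * v := fun hv hw => hp.comm hv hw
  let ψ : ↥W →* ↥W1 := MonoidHom.mk' (fun w => ⟨s * (w : G) * s⁻¹ * (w : G)⁻¹, hψW w w.2⟩) (by
    intro w w'
    apply Subtype.ext
    show s * ((w : G) * w') * s⁻¹ * ((w : G) * w')⁻¹ =
      s * (w : G) * s⁻¹ * (w : G)⁻¹ * (s * (w' : G) * s⁻¹ * (w' : G)⁻¹)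
    have h1 := hWc (inv_mem w.2) (hp.N1N (hψW w' w'.2))
    calc s * ((w : G) * w') * s⁻¹ * ((w : G) * w')⁻¹
        = (s * (w : G) * s⁻¹) * ((s * (w' : G) * s⁻¹ * (w' : G)⁻¹) * (w : G)⁻¹) := by group
      _ = _ := by rw [← h1]; group)
  have hker : ∀ w : ↥W, (ψ w : G) ∈ W0 → (w : G) ∈ W1 := fun w hw =>
    hp.cent s hsB ⟨w₀, hw₀, hne⟩ w w.2 hw
  obtain ⟨n, hn, hn'⟩ := hmv
  refine hn' (fix_W1 hp ha0 ψ ?_ (fun w hw => ?_) (fun w => ?_) n hn)
  · rw [hp.card]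
    refine Nat.mul_le_mul_right _ ?_
    refine Nat.card_le_card_of_injective (fun w : ψ.ker => (⟨((w : ↥W) : G), hker w ?_⟩ : ↥W1)) ?_
    · have h1 : ψ (w : ↥W) = 1 := w.2
      rw [h1]; exact one_mem _
    · intro w w' hww
      exact Subtype.ext (Subtype.ext (congrArg (fun x : ↥W1 => (x : G)) hww))
  · have h1 := hker w hw
    apply Subtype.ext
    show s * (w : G) * s⁻¹ * (w : G)⁻¹ = 1
    rw [hp.N1c s hsB w h1]; group
  · refine fix_e h hp hA hrr ha (hψW w w.2) ?_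
    obtain ⟨v, hv, w', hw', e⟩ := conj_mem h hp hA hij hrr ha ha' ha0 ⟨n, hn, hn'⟩ hWQ hcW w.2
    have hs' : a * s * a⁻¹ ∈ o2 P := h.Qn haP hs
    have h1 := h.VcQ hs' hv
    show a * (s * (w : G) * s⁻¹ * (w : G)⁻¹) * a⁻¹ ∈ _
    have e2 : a * (s * (w : G) * s⁻¹ * (w : G)⁻¹) * a⁻¹ =
        (a * s * a⁻¹) * w' * (a * s * a⁻¹)⁻¹ * w'⁻¹ := by
      have h2 : v * ((a * s * a⁻¹) * w' * (a * s * a⁻¹)⁻¹ * w'⁻¹) =
          ((a * s * a⁻¹) * w' * (a * s * a⁻¹)⁻¹ * w'⁻¹) * v :=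
        h.ev.comm_mem hv (W1_le_V h hp (hp.quad _ (QB h hs') w' hw'))
      calc a * (s * (w : G) * s⁻¹ * (w : G)⁻¹) * a⁻¹
          = (a * s * a⁻¹) * (a * (w : G) * a⁻¹) * (a * s * a⁻¹)⁻¹ * (a * (w : G) * a⁻¹)⁻¹ := by group
        _ = ((a * s * a⁻¹) * v) * w' * (a * s * a⁻¹)⁻¹ * (v * w')⁻¹ := by rw [e]; group
        _ = (v * ((a * s * a⁻¹) * w' * (a * s * a⁻¹)⁻¹ * w'⁻¹)) * v⁻¹ := by rw [h1]; group
        _ = _ := by rw [h2, mul_inv_cancel_right]
    rw [e2]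
    exact W1_le hp (hp.quad _ (QB h hs') w' hw')

end big

/-- **Step 2, `q > 2`.** -/
theorem W_le_V_big (h : Hyp S P ε) (h3 : 3 ≤ m) (hd : Dat S P ε X Y N t r)
    (hp : PB (bau (S : Subgroup G)) L W W1 W0 q) (hq : 2 < q) (hWQ : W ≤ o2 P)
    {i₀ : ι} (hc : ∀ l ∈ L, l * rr ε (X i₀) (Y i₀) = rr ε (X i₀) (Y i₀) * l) :
    W ≤ zl (S : Subgroup G) P := by
  obtain ⟨p, p', hpp, hfx⟩ := exists_pp h h3 hd hp hq
  have hXX := (hd.disj p p' hpp).1
  obtain ⟨A, hA⟩ := exists_ex h hXX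
  obtain ⟨a, ha, ha'⟩ := hA.ex
  -- `a` commutes with `C_{Z_J}(L)`
  have haH : ∀ z ∈ HH S L, a * z = z * a := by
    intro z hz
    obtain ⟨x, rfl⟩ := h.ev.surj z (LemQ.zj_le h (mem_HH.1 hz).1)
    exact (acts_swap h.ev ha' x).1 (hfx x hz)
  have ha0 : ∀ n ∈ W0, a * n = n * a := fun n hn =>
    haH n (mem_HH.2 ⟨W1_le hp (hp.N01 hn), fun l hl => hp.N0c l hl n hn⟩)
  have hdH : rr ε (X i₀) (Y i₀) ∈ HH S L := mem_HH.2 ⟨hd.bas.d_mem_Z i₀, hc⟩
  have had := haH _ hdH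
  have hmv : ∃ n ∈ W1, a * n ≠ n * a := by
    by_contra hcon
    push Not at hcon
    have hz := hd.bas.d_mem_Z p
    have hz' := hz
    rw [← ChoiceBase.zc_bau] at hz'
    obtain ⟨c, hcz, hcL, n, hn, e⟩ := hp.Z_split hz'
    rw [ChoiceBase.zc_bau] at hcz
    have h1 : a * rr ε (X p) (Y p) = rr ε (X p) (Y p) * a := by
      rw [e]
      have h2 := haH c (mem_HH.2 ⟨hcz, hcL⟩)
      have h4 := hcon n hn
      calc a * (c * n) = (a * c) * n := by group
        _ = c * (a * n) := by rw [h2]; group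
        _ = c * n * a := by rw [h4]; group
    rw [rr_eq h.ev] at h1
    have h2 := (swap_comm_iff h.ev h.three hXX ha' _).1 h1
    have h4 := hd.disj p p' hpp
    rw [Pi.add_apply, Pi.add_apply, Pi.single_eq_same, Pi.single_eq_of_ne (hd.ne p),
      Pi.single_eq_of_ne h4.1.symm, Pi.single_eq_of_ne h4.2.2.1.symm, add_zero, add_zero] at h2
    exact one_ne_zero h2
  -- `W` and `W^a` commute
  have hcW : ∀ u ∈ W, ∀ v ∈ W, u * (a * v * a⁻¹) = (a * v * a⁻¹) * u := by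
    intro u hu v hv
    obtain ⟨u1, hu1, n, hn, rfl⟩ := hp.exists_V hu
    obtain ⟨v1, hv1, n', hn', rfl⟩ := hp.exists_V hv
    have haP := hA.AP ha
    have h1 := comm_pb h hp hp (x := 1) (y := a) (rr_ne_one h.ev h.three (hd.ne i₀)) (rr_sq h.ev _ _)
      (fun l hl => by
        have := hc l hl
        rw [inv_one, mul_one, one_mul]; exact this)
      (fun l hl => by
        have h2 := hc l hl
        set d := rr ε (X i₀) (Y i₀) with hdd
        have h4 : a⁻¹ * d = d * a⁻¹ := by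
          calc a⁻¹ * d = a⁻¹ * (d * a) * a⁻¹ := by group
            _ = a⁻¹ * (a * d) * a⁻¹ := by rw [had]
            _ = d * a⁻¹ := by group
        calc a * l * a⁻¹ * d = a * l * (a⁻¹ * d) := by group
          _ = a * (l * d) * a⁻¹ := by rw [h4]; group
          _ = (a * d) * l * a⁻¹ := by rw [h2]; group
          _ = d * (a * l * a⁻¹) := by rw [had]; group) hu1 hv1
    simp only [inv_one, mul_one, one_mul] at h1
    have hnV := W0_le_V h hp hn
    have hn'V : a * n' * a⁻¹ ∈ zl (S : Subgroup G) P := h.Vn haP (W0_le_V h hp hn')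
    have hVW : (⁅W, L⁆ : Subgroup G) ≤ W := hp.VN
    have h2 : ∀ x ∈ W, n * (a * x * a⁻¹) = (a * x * a⁻¹) * n := fun x hx =>
      (h.VcQ (h.Qn haP (hWQ hx)) hnV).symm
    have h4 : ∀ x ∈ W, x * (a * n' * a⁻¹) = (a * n' * a⁻¹) * x := fun x hx => h.VcQ (hWQ hx) hn'V
    have e1 : a * (v1 * n') * a⁻¹ = (a * v1 * a⁻¹) * (a * n' * a⁻¹) := by group
    have c1 : Commute u1 (a * v1 * a⁻¹) := h1
    have c2 : Commute u1 (a * n' * a⁻¹) := h4 u1 (hVW hu1)
    have c3 : Commute n (a * v1 * a⁻¹) := h2 v1 (hVW hv1)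
    have c4 : Commute n (a * n' * a⁻¹) := h.ev.comm_mem hnV hn'V
    rw [e1]
    exact ((c1.mul_right c2).mul_left (c3.mul_right c4)).eq
  exact W_le_V_of h hp hA hXX (rr_not_zj h hd hpp) ha ha' ha0 hmv hWQ hcW

/-- **FF-blocks over `B` which commute with some `d i₀` lie in `N_G(V)`.** -/
theorem L_le (h : Hyp S P ε) (h3 : 3 ≤ m) (hd : Dat S P ε X Y N t r)
    (hp : PB (bau (S : Subgroup G)) L W W1 W0 q)
    {i₀ : ι} (hc : ∀ l ∈ L, l * rr ε (X i₀) (Y i₀) = rr ε (X i₀) (Y i₀) * l) :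
    L ≤ normalizer (zl (S : Subgroup G) P : Set G) := by
  have hWQ := W_le_Q h hd hp hc
  have hWV : W ≤ zl (S : Subgroup G) P := by
    by_cases hq : 2 < q
    · exact W_le_V_big h h3 hd hp hq hWQ hc
    · have h1 : q = 2 := by
        have := hp.one
        omega
      subst h1
      exact W_le_V_two h hp hWQ
  have hq := q_eq_two h hd hp hWV
  subst hq
  exact L_le_of_V h h3 hd hp hWV

end Cfsg.Agent.Omega.NSix.CaseJ.PBlock

end

section


/-!
# OMEGA N6, case `J(S) ≰ O₂(P)`: (8) of #16037 / (f8) of #16600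

* `exists_pb` : a minimal parabolic `H` over `T ≥ bau S` with `J(T) ≰ O₂(H)`, `[Ω₁Z(T), H] ≠ 1` is generated by `T`
  and an FF-block over `bau S`;
* `cent` : a minimal parabolic of `C_G(r_ij)` over `C_S(r_ij)` which is not in `N_G(V)` centralises `C_V(C_S(r_ij))`.
-/

set_option autoImplicit false
set_option linter.unusedSectionVars false

namespace Cfsg.Agent.Omega.NSix.CaseJ.Eight

open Subgroup Cfsg Cfsg.Agent.ZN.ChoiceBase Cfsg.Agent.ZN.ChoiceSit
open Cfsg.Agent.ZN (jj zj bau zc zl o2)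
open Cfsg.Agent.MinSimple.MinParabolic (IsMinPar)
open Cfsg.Agent.Omega.LemmaK (Block WeakNormal)
open Cfsg.Agent.Omega.LemmaK.Main (le_normalizer_bau)
open Cfsg.Agent.Omega.FFThm (Off NoOver Concl NatK SymK)
open Cfsg.Agent.Omega.OM (PB FBK.pb FBS.pb syT_of)
open Cfsg.Agent.Omega.OM.BlkGen (exists_off)
open Cfsg.Agent.Omega.S5.Def
open Cfsg.Agent.Omega.NSix.Base Cfsg.Agent.Omega.NSix.Basic
open Cfsg.Agent.Omega.NSix.CaseJ.Base
open scoped Pointwise

universe u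

variable {G : Type u} [Group G] [Finite G]

/-- **Minimal parabolics which move `Ω₁(Z(T))` are generated by `T` and an FF-block over `B`.** -/
theorem exists_pb {T H : Subgroup G} (hFF : FFThm.Stmt.{u}) (S : Sylow 2 G) (hT : Syl T H)
    (hB : bau (S : Subgroup G) ≤ T) (hP : IsMinPar T H) (hc : H ⊓ centralizer (o2 H : Set G) ≤ o2 H)
    (hJ : ¬ jj T ≤ o2 H) (hZ : ¬ H ≤ centralizer (zc T : Set G)) :
    ∃ (L N N1 N0 : Subgroup G) (q : ℕ), PB (bau (S : Subgroup G)) L N N1 N0 q ∧ L ≤ H ∧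
      ∀ K : Subgroup G, T ≤ K → L ≤ K → H ≤ K := by
  have hbau : bau T = bau (S : Subgroup G) := LemmaK.Main.bau_eq S hT.2.1 hB
  have hw : WeakNormal 2 (bau T) := by
    rw [hbau]
    exact fun R hR hBR => le_normalizer_bau S hR hBR
  obtain ⟨A, hA, hoff⟩ := exists_off hT hP hc hJ hZ
  obtain ⟨hno, hcon⟩ := hFF G T H hT hP hc ⟨A, hA.2.1.trans hT.1, hoff⟩
  have hm := SQ1.FFOne.minH_of hT hP hc
  rcases hcon with ⟨F, _, _, _, k, hk, ⟨M⟩⟩ | ⟨k, m, hk, hm2, ⟨M⟩⟩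
  · have : Nonempty (Fin k) := ⟨⟨0, hk⟩⟩
    set N := (SQ1.FFOne.natKB_of hT hc hJ hk M).toFFK hm with hN
    obtain ⟨E, hE⟩ := N.toInK hm
    obtain ⟨L, hL⟩ := hE.exists_blk ⟨0, hk⟩
    have hpb := FBK.pb hm N hE hw hL
    rw [hbau] at hpb
    exact ⟨L, _, _, _, _, hpb, hL.LH hE, fun K hTK hLK => hL.sup_T hE hTK hLK⟩
  · have h := syT_of hm hJ M hk (by omega) SQ1.FFOf.cv_le SQ1.FFOf.cv_norm
    obtain ⟨ι, J, X, Y, t, r, c⟩ := h.exists_ch
    have hin := c.main h Cfsg.Agent.Omega.SQ1.SymCyc.exists_pow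
    obtain ⟨j, x, y, hTr⟩ := h.exists_tr
    obtain ⟨i, -⟩ := c.ex j x y hTr
    obtain ⟨L, hL⟩ := hin.exists_blk i
    have hpb := FBS.pb hin hw hL
    rw [hbau] at hpb
    exact ⟨L, _, _, _, _, hpb, hL.LH hin, fun K hTK hLK => hL.sup_T hin hTK hLK⟩

variable {S : Sylow 2 G} {P : Subgroup G} {m : ℕ} {ε : (Fin (2 ^ m + 1) → ZMod 2) → G}

/-- **(8)** A minimal parabolic of `C_G(r_ij)` over `C_S(r_ij)` outside `N_G(V)` centralises `C_V(C_S(r_ij))`. -/
theorem cent (hFF : FFThm.Stmt.{u}) (h : Hyp S P ε) (h3 : 3 ≤ m) :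
    ∀ i j, i ≠ j → (∃ b ∈ (S : Subgroup G), Acts ε b (Equiv.swap i j)) →
      ∀ P₁ : Subgroup G, IsMinPar ((S : Subgroup G) ⊓ centralizer ({rr ε i j} : Set G)) P₁ →
        P₁ ≤ centralizer ({rr ε i j} : Set G) → ¬ P₁ ≤ normalizer (zl (S : Subgroup G) P : Set G) →
          P₁ ≤ centralizer ((zl (S : Subgroup G) P ⊓ centralizer (((S : Subgroup G) ⊓
            centralizer ({rr ε i j} : Set G) : Subgroup G) : Set G) : Subgroup G) : Set G) := by
  intro i j hij hb P₁ hP₁ hP₁C hnot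
  set C := centralizer ({rr ε i j} : Set G) with hC
  set T := (S : Subgroup G) ⊓ C with hT
  have hsC := Fus.syl h h3 hij hb
  rw [← hC, ← hT] at hsC
  have hs : Syl T P₁ := ⟨hP₁.le, hsC.2.1, fun R hR hR2 hTR => hsC.2.2 R (hR.trans hP₁C) hR2 hTR⟩
  have hB : bau (S : Subgroup G) ≤ T := Fus.bau_le_cent (Fus.rr_zj h hij hb)
  have hr1 := rr_ne_one h.ev h.three hij
  have hr2 : rr ε i j ^ 2 = 1 := by rw [pow_two]; exact rr_sq h.ev i j
  have hcC : C ⊓ centralizer (o2 C : Set G) ≤ o2 C := MinSimple.Basic.char2_centralizer h.hG hr2 hr1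
  have hc1 : P₁ ⊓ centralizer (o2 P₁ : Set G) ≤ o2 P₁ := by
    have h4 : o2 C ≤ o2 P₁ := ZN.le_o2 ((o2_le_syl hsC).trans hP₁.le) (isPGroup_o2 C)
      (hP₁C.trans (le_normalizer_o2 C))
    rintro x ⟨hx, hxc⟩
    exact h4 (hcC ⟨hP₁C hx, centralizer_le (by exact_mod_cast h4) hxc⟩)
  have hjj : jj T = jj (S : Subgroup G) := LemmaK.Main.jj_eq S hsC.2.1 hB
  by_cases hZ : P₁ ≤ centralizer (zc T : Set G)
  · refine hZ.trans (centralizer_le ?_)
    intro v hv
    have hv' : v ∈ zl (S : Subgroup G) P ∧ v ∈ centralizer (T : Set G) := hv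
    have hvc := mem_centralizer_iff.1 hv'.2
    rw [SetLike.mem_coe, Cfsg.Agent.ZN.ChoiceBase.mem_zc]
    refine ⟨hB (Blk.VB h hv'.1), ?_, fun y hy => hvc y hy⟩
    rw [pow_two]
    exact h.ev.sq_mem hv'.1
  exfalso
  apply hnot
  by_cases hJ : jj T ≤ o2 P₁
  · rw [hjj] at hJ
    have h1 := Fus.jj_eq_of_le S (isPGroup_o2 P₁) hJ
    have h2 : P₁ ≤ normalizer ((jj (o2 P₁) : Subgroup G) : Set G) :=
      (le_normalizer_o2 P₁).trans (normalizer_le_of_cj (F := jj) jj_cj (o2 P₁))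
    rw [h1] at h2
    exact h2.trans (Norm.jj_le h h3)
  · obtain ⟨L, N, N1, N0, q, hpb, hLP, hgen⟩ := exists_pb hFF S hs hB hP₁ hc1 hJ hZ
    refine hgen _ (inf_le_left.trans (Fus.S_le h)) ?_
    obtain ⟨ι, X, Y, N', t, r, -, hd⟩ := h.exists_dat
    have hLc : ∀ l ∈ L, l * rr ε i j = rr ε i j * l := fun l hl =>
      mem_centralizer_singleton_iff.1 (hP₁C (hLP hl))
    obtain ⟨p, h1 | h1⟩ := Fus.exists_pair h hd hij hb
    · rw [h1.1, h1.2] at hLc
      exact PBlock.L_le h h3 hd hpb hLc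
    · rw [h1.1, h1.2, rr_symm h.ev] at hLc
      exact PBlock.L_le h h3 hd hpb hLc

end Cfsg.Agent.Omega.NSix.CaseJ.Eight

end
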